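import Cfsg.Agent.H42.J4.Fixed

/-!
Janko-four type: if `N(P) ≤ H` and some element of `C_H(P)` outside `⟨z⟩` is conjugate to `z`, then
`C_H(P)` is perfect and `P` is conjugate to a subgroup of `C_H(P)` different from `P`.
-/

set_option autoImplicit false

open Cfsg Subgroup
open scoped commutatorElement

namespace H42.J4

open H25.M22 (G22)

variable {G : Type*} [Group G] [Finite G] {z : G} {P : Subgroup G}

/-- The cube of an element of `⟨z⟩ × P` lies in `⟨z⟩`. -/
theorem cube_mem_z (hJ : IsOfJankoFourTypeWith z P) {k : G} (hk : k ∈ zpowers z ⊔ P) :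
    k ^ 3 ∈ zpowers z := by
  obtain ⟨a, -, ha, -, hza, -, he⟩ := exists_gen hJ
  obtain ⟨i, rfl⟩ := mem_zpowers_iff.1 (he ▸ hk)
  rw [hza.mul_zpow, (hza.zpow_zpow i i).mul_pow]
  have : (a ^ i) ^ 3 = 1 := by
    rw [← zpow_natCast, ← zpow_mul, mul_comm, zpow_mul, zpow_natCast, ← ha, pow_orderOf_eq_one,
      one_zpow]
  rw [this, mul_one]
  exact pow_mem (zpow_mem (mem_zpowers z) i) 3

/-- A subgroup of order four of `M22` containing every element `m` with `m ^ 4 = 1` of the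
centraliser of an element `B` of order three, and normalised by an element of order three fixing
nothing on it, has exponent two. -/
theorem sq_eq_one_of_fpf {Q : Type*} [Group Q] [Finite Q] {S : Subgroup Q} (hS : Nat.card S = 4)
    {c : Q} (hc : ∀ s ∈ S, c * s * c⁻¹ ∈ S) (hfree : ∀ s ∈ S, c * s = s * c → s = 1) :
    ∀ s ∈ S, s * s = 1 := by
  intro s hs
  by_contra hne
  have h4 : s ^ 4 = 1 := orderOf_dvd_iff_pow_eq_one.1 (hS ▸ S.orderOf_dvd_natCard hs)
  have ho : orderOf s = 4 := by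
    have hd : orderOf s ∣ 4 := orderOf_dvd_iff_pow_eq_one.2 h4
    have h2 : ¬ orderOf s ∣ 2 := fun h => hne (by
      rw [← pow_two]; exact orderOf_dvd_iff_pow_eq_one.1 h)
    obtain ⟨i, hi, hoi⟩ := (Nat.dvd_prime_pow Nat.prime_two).1 (show orderOf s ∣ 2 ^ 2 from hd)
    rw [hoi] at h2 ⊢
    obtain rfl | hi2 : i = 2 ∨ i ≤ 1 := by omega
    · rfl
    · exact absurd ((pow_dvd_pow 2 hi2).trans (by norm_num)) h2
  have heq : zpowers s = S := eq_of_le_of_card_ge (zpowers_le.2 hs) (by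
    rw [hS, Nat.card_zpowers, ho])
  obtain ⟨i, hi⟩ := mem_zpowers_iff.1 (heq.symm ▸ hc s hs)
  have hconj : c * (s * s) * c⁻¹ = (s * s) ^ i := by
    calc c * (s * s) * c⁻¹ = (c * s * c⁻¹) * (c * s * c⁻¹) := by group
      _ = (s * s) ^ i := by rw [← hi, (Commute.refl s).mul_zpow]
  have h22 : (s * s) ^ (2 : ℤ) = 1 := by
    rw [zpow_ofNat, pow_two, ← h4]; simp [pow_succ, mul_assoc]
  have hval : (s * s) ^ i = (s * s) ^ (i % 2) := by
    conv_lhs => rw [← Int.emod_add_mul_ediv i 2]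
    rw [zpow_add, zpow_mul, h22, one_zpow, mul_one]
  apply hne
  rcases Int.emod_two_eq_zero_or_one i with h | h
  · rw [hval, h, zpow_zero, conj_eq_one_iff] at hconj
    exact hconj
  · rw [hval, h, zpow_one, mul_inv_eq_iff_eq_mul] at hconj
    exact hfree _ (mul_mem hs hs) hconj

/-- An involution of `C_H(b)` outside `⟨z⟩` that is central there is a product of commutators. -/
theorem mem_commutator_cent (hJ : IsOfJankoFourTypeWith z P) {b z₁ : G}
    (hb : b ∈ centralizer ({z} : Set G) ⊓ centralizer (P : Set G)) (hb3 : b ^ 3 = 1) (hbP : b ∉ P)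
    (hz₁ : z₁ ∈ centralizer ({z} : Set G)) (hz₁b : z₁ * b = b * z₁)
    (hcen : ∀ x ∈ centralizer ({z} : Set G), x * b = b * x → z₁ * x = x * z₁)
    (hz₁2 : z₁ * z₁ = 1) (hz₁z : z₁ ∉ zpowers z) :
    z₁ ∈ ⁅centralizer ({z} : Set G) ⊓ centralizer ({b} : Set G),
      centralizer ({z} : Set G) ⊓ centralizer ({b} : Set G)⁆ := by
  classical
  haveI : Fact (Nat.Prime 3) := ⟨Nat.prime_three⟩
  haveI : Fact (Nat.Prime 2) := ⟨Nat.prime_two⟩
  have hzK := z_mem_commutator_fix hJ hb hb3 hbP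
  obtain ⟨c, hc, hc3, hcP, a, haP, ha1, hPa, hcb⟩ := exists_conj_mul hJ hb hb3 hbP
  set H : Subgroup G := centralizer ({z} : Set G) with hH
  set C : Subgroup G := H ⊓ centralizer (P : Set G) with hC
  set K : Subgroup G := H ⊓ centralizer ({b} : Set G) with hK
  obtain ⟨π, hπ, hk⟩ := exists_hom_cent hJ
  have hker : ∀ x : C, π x = 1 ↔ (x : G) ∈ zpowers z ⊔ P := fun x => by
    rw [← MonoidHom.mem_ker, hk, mem_subgroupOf]
  have hP3 : ∀ p ∈ P, p ^ 3 = 1 := fun p hp => by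
    rw [← orderOf_dvd_iff_pow_eq_one, ← hJ.2.2.2.2.2.1]
    exact P.orderOf_dvd_natCard hp
  have hkP : ∀ k ∈ zpowers z ⊔ P, k ^ 3 = 1 → k ∈ P := fun k hk h3 =>
    mem_p_of_cube hJ hk (by rw [show 27 = 3 * 9 from rfl, pow_mul, h3, one_pow])
  have hab : Commute a b := ker_central hJ (mem_sup_right haP) hb
  have hac : Commute a c := ker_central hJ (mem_sup_right haP) hc
  set B : G22 := π ⟨b, hb⟩ with hBdef
  set Cc : G22 := π ⟨c, hc⟩ with hCdef
  have hbb : ∀ h : b ∈ C, π ⟨b, h⟩ = B := fun h => rfl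
  have hB1 : B ≠ 1 := fun e => hbP (hkP b ((hker _).1 e) hb3)
  have hC1 : Cc ≠ 1 := fun e => hcP (hkP c ((hker _).1 e) hc3)
  have hB3 : orderOf B = 3 := orderOf_eq_prime (by
    rw [hBdef, ← map_pow, show (⟨b, hb⟩ : C) ^ 3 = 1 from Subtype.ext hb3, map_one]) hB1
  have hC3 : orderOf Cc = 3 := orderOf_eq_prime (by
    rw [hCdef, ← map_pow, show (⟨c, hc⟩ : C) ^ 3 = 1 from Subtype.ext hc3, map_one]) hC1
  have hCB : Cc * B = B * Cc := by
    rw [hCdef, hBdef, ← map_mul, ← map_mul, ← mul_inv_eq_one, ← map_inv, ← map_mul, hker]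
    have : c * b * (b * c)⁻¹ = a := by
      rw [mul_inv_rev, ← mul_assoc, hcb, mul_inv_cancel_right]
    exact mem_sup_right (show c * b * (b * c)⁻¹ ∈ P from this.symm ▸ haP)
  set M : Subgroup G22 := centralizer ({B} : Set G22) with hMdef
  have hM36 : Nat.card M = 36 := card_cent_three hB3
  -- elements of `M` of order dividing four lift into `C(b)`
  have hlift : ∀ m ∈ M, m ^ 4 = 1 → ∃ x : C, π x = m ∧ (x : G) * b = b * x := by
    intro m hm hm4
    obtain ⟨x, rfl⟩ := hπ m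
    refine ⟨x, rfl, ?_⟩
    set k : G := (x : G) * b * (x : G)⁻¹ * b⁻¹ with hkdef
    have hkk : k ∈ zpowers z ⊔ P := (hker (x * ⟨b, hb⟩ * x⁻¹ * (⟨b, hb⟩ : C)⁻¹)).1 (by
      rw [map_mul, map_mul, map_mul, map_inv, map_inv, hbb,
        mem_centralizer_singleton_iff.1 hm, mul_inv_cancel_right, mul_inv_cancel])
    have hkb : Commute k b := ker_central hJ hkk hb
    have hkx : Commute k x := ker_central hJ hkk x.2
    have h1 : (x : G) * b * (x : G)⁻¹ = k * b := by rw [hkdef, inv_mul_cancel_right]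
    have hk3 : k ^ 3 = 1 := by
      have : (k * b) ^ 3 = 1 := by rw [← h1, conj_pow, hb3, mul_one, mul_inv_cancel]
      rwa [hkb.mul_pow, hb3, mul_one] at this
    have hpow : ∀ n : ℕ, (x : G) ^ n * b * ((x : G) ^ n)⁻¹ = k ^ n * b := by
      intro n
      induction n with
      | zero => simp
      | succ n ih =>
        calc (x : G) ^ (n + 1) * b * ((x : G) ^ (n + 1))⁻¹
            = x * ((x : G) ^ n * b * ((x : G) ^ n)⁻¹) * (x : G)⁻¹ := by rw [pow_succ']; group
          _ = ((x : G) * k ^ n * (x : G)⁻¹) * ((x : G) * b * (x : G)⁻¹) := by rw [ih]; group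
          _ = k ^ (n + 1) * b := by
            rw [(hkx.symm.pow_right n).eq, mul_inv_cancel_right, h1, ← mul_assoc, ← pow_succ]
    have h4 := hpow 4
    have hc4 : Commute ((x : G) ^ 4) b :=
      ker_central hJ ((hker (x ^ 4)).1 (by rw [map_pow, hm4])) hb
    rw [hc4.eq, mul_inv_cancel_right, right_eq_mul, pow_succ k 3, hk3, one_mul] at h4
    rw [h4, one_mul, mul_inv_eq_iff_eq_mul] at h1
    exact h1
  -- the image of `C(b)`
  set W : Subgroup G22 := (K.subgroupOf C).map π with hW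
  have hWM : W ≤ M := by
    rintro _ ⟨x, hx, rfl⟩
    refine mem_centralizer_singleton_iff.2 ?_
    rw [hBdef, ← map_mul, ← map_mul]
    exact congrArg π (Subtype.ext (mem_centralizer_singleton_iff.1 (mem_subgroupOf.1 hx).2))
  have hmemW : ∀ x : C, (x : G) * b = b * x → π x ∈ W := fun x hx =>
    ⟨x, mem_subgroupOf.2 ⟨x.2.1, mem_centralizer_singleton_iff.2 hx⟩, rfl⟩
  have hBW : B ∈ W := hmemW ⟨b, hb⟩ rfl
  have hCW : Cc ∉ W := by
    rintro ⟨x, hx, hxe⟩
    have hxk : (x : G)⁻¹ * c ∈ zpowers z ⊔ P := (hker (x⁻¹ * ⟨c, hc⟩)).1 (by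
      rw [map_mul, map_inv, hxe, hCdef, inv_mul_cancel])
    have hxb : (x : G) * b = b * x := mem_centralizer_singleton_iff.1 (mem_subgroupOf.1 hx).2
    have hcc : c * b = b * c := by
      have h1 : Commute ((x : G) * ((x : G)⁻¹ * c)) b :=
        (show Commute (x : G) b from hxb).mul_left (ker_central hJ hxk hb)
      rw [mul_inv_cancel_left] at h1
      exact h1.eq
    rw [hcc, mul_inv_cancel_right, right_eq_mul] at hcb
    exact ha1 hcb
  have hCM : Cc ∈ M := mem_centralizer_singleton_iff.2 hCB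
  obtain ⟨T⟩ : Nonempty (Sylow 2 M) := inferInstance
  set S : Subgroup G22 := (T : Subgroup M).map M.subtype with hSdef
  have hS4 : Nat.card S = 4 := by
    rw [card_map_of_injective M.subtype_injective, T.card_eq_multiplicity, hM36,
      show (36 : ℕ) = 2 ^ 2 * 9 by norm_num,
      Nat.factorization_mul (by norm_num) (by norm_num), Nat.prime_two.factorization_pow]
    simp [Nat.factorization_eq_zero_of_not_dvd (show ¬ 2 ∣ 9 by norm_num)]
  have hSM : S ≤ M := map_subtype_le _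
  have hpow4 : ∀ m ∈ S, m ^ 4 = 1 := fun m hm =>
    orderOf_dvd_iff_pow_eq_one.1 (hS4 ▸ S.orderOf_dvd_natCard hm)
  have hin : ∀ m ∈ M, m ^ 4 = 1 → m ∈ W := by
    intro m hm h4
    obtain ⟨x, rfl, hx⟩ := hlift m hm h4
    exact hmemW x hx
  have hSW : S ≤ W := fun m hm => hin m (hSM hm) (hpow4 m hm)
  have hW12 : Nat.card W = 12 := by
    have hd : Nat.card W ∣ 36 := hM36 ▸ card_dvd_of_le hWM
    have h4 : 4 ∣ Nat.card W := hS4 ▸ card_dvd_of_le hSW
    have h3 : 3 ∣ Nat.card W := hB3 ▸ W.orderOf_dvd_natCard hBW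
    have hne : Nat.card W ≠ 36 := fun e =>
      hCW ((eq_of_le_of_card_ge hWM (by rw [hM36, e])).symm ▸ hCM)
    obtain ⟨j, hj⟩ := Nat.Coprime.mul_dvd_of_dvd_of_dvd (by norm_num : Nat.Coprime 4 3) h4 h3
    have hj3 : j ∣ 3 := Nat.dvd_of_mul_dvd_mul_left (by norm_num : 0 < 4 * 3) (by rw [← hj]; exact hd)
    rcases (Nat.dvd_prime Nat.prime_three).1 hj3 with rfl | rfl
    · exact hj
    · exact absurd hj hne
  -- `S` is the only Sylow 2-subgroup of `W`
  let U : Sylow 2 W := Sylow.ofCard (S.subgroupOf W) (by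
    rw [Nat.card_congr (subgroupOfEquivOfLe hSW).toEquiv, hS4, hW12,
      show (12 : ℕ) = 2 ^ 2 * 3 by norm_num,
      Nat.factorization_mul (by norm_num) (by norm_num), Nat.prime_two.factorization_pow]
    simp [Nat.factorization_eq_zero_of_not_dvd (show ¬ 2 ∣ 3 by norm_num)])
  have hBcomm : ∀ m ∈ M, B * m = m * B := fun m hm => (mem_centralizer_singleton_iff.1 hm).symm
  haveI hUn : (U : Subgroup W).Normal := by
    rw [← normalizer_eq_top_iff]
    refine Subgroup.eq_top_of_le_card _ ?_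
    have h4 : 4 ∣ Nat.card ↥(normalizer ((U : Subgroup W) : Set W)) := by
      have h : Nat.card (U : Subgroup W) = 4 := by
        rw [Sylow.coe_ofCard, Nat.card_congr (subgroupOfEquivOfLe hSW).toEquiv, hS4]
      exact h ▸ card_dvd_of_le le_normalizer
    have hBn : (⟨B, hBW⟩ : W) ∈ normalizer ((U : Subgroup W) : Set W) := by
      refine centralizer_le_normalizer _ (mem_centralizer_iff.2 fun v hv => Subtype.ext ?_)
      exact (hBcomm _ (hWM v.2)).symm
    have h3 : 3 ∣ Nat.card ↥(normalizer ((U : Subgroup W) : Set W)) := by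
      rw [← hB3, show orderOf B = orderOf (⟨B, hBW⟩ : W) from
        (Subgroup.orderOf_coe (⟨B, hBW⟩ : W))]
      exact (normalizer _).orderOf_dvd_natCard hBn
    have := Nat.le_of_dvd Nat.card_pos
      (Nat.Coprime.mul_dvd_of_dvd_of_dvd (by norm_num : Nat.Coprime 4 3) h4 h3)
    omega
  have hall : ∀ m ∈ M, m ^ 4 = 1 → m ∈ S := by
    intro m hm h4
    have hp : IsPGroup 2 ↥(zpowers (⟨m, hin m hm h4⟩ : W)) := by
      obtain ⟨j, -, hj⟩ := (Nat.dvd_prime_pow Nat.prime_two).1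
        (show orderOf (⟨m, hin m hm h4⟩ : W) ∣ 2 ^ 2 by
          rw [orderOf_dvd_iff_pow_eq_one]; exact Subtype.ext h4)
      exact IsPGroup.of_card (n := j) (by rw [Nat.card_zpowers, hj])
    obtain ⟨V, hV⟩ := hp.exists_le_sylow
    haveI := U.unique_of_normal hUn
    have : V = U := Subsingleton.elim _ _
    exact mem_subgroupOf.1 (show (⟨m, hin m hm h4⟩ : W) ∈ S.subgroupOf W from
      (this ▸ hV) (mem_zpowers _))
  have hconjS : ∀ s ∈ S, Cc * s * Cc⁻¹ ∈ S := fun s hs =>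
    hall _ (M.mul_mem (M.mul_mem hCM (hSM hs)) (M.inv_mem hCM))
      (by rw [conj_pow, hpow4 s hs, mul_one, mul_inv_cancel])
  have hfree : ∀ s ∈ S, Cc * s = s * Cc → s = 1 := by
    intro s hs h
    have hp : IsPGroup 3 ↥(zpowers B ⊔ zpowers Cc) := by
      refine (IsPGroup.of_card (n := 1) ?_).to_sup_of_normal_right' (IsPGroup.of_card (n := 1) ?_) ?_
      · rw [Nat.card_zpowers, hB3, pow_one]
      · rw [Nat.card_zpowers, hC3, pow_one]
      · refine zpowers_le.2 (centralizer_le_normalizer _ (mem_centralizer_iff.2 fun v hv => ?_))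
        obtain ⟨i, rfl⟩ := mem_zpowers_iff.1 hv
        exact ((show Commute Cc B from hCB).zpow_left i).eq
    obtain ⟨Q, hQ⟩ := hp.exists_le_sylow
    have hlt : zpowers B < zpowers B ⊔ zpowers Cc := by
      refine lt_of_le_of_ne le_sup_left fun e => hCW ?_
      have : Cc ∈ zpowers B := e.symm ▸ mem_sup_right (mem_zpowers Cc)
      exact zpowers_le.2 hBW this
    have h9 : zpowers B ⊔ zpowers Cc = (Q : Subgroup G22) := by
      refine eq_of_le_of_card_ge hQ ?_
      rw [card_sylow_three Q]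
      have h1 : 3 < Nat.card ↥(zpowers B ⊔ zpowers Cc) := by
        by_contra hle
        exact hlt.ne (eq_of_le_of_card_ge hlt.le (by rw [Nat.card_zpowers, hB3]; omega))
      obtain ⟨j, hj⟩ := IsPGroup.iff_card.1 hp
      rw [hj] at h1 ⊢
      have : 2 ≤ j := by
        by_contra hlt2
        interval_cases j <;> norm_num at h1
      calc (9 : ℕ) = 3 ^ 2 := by norm_num
        _ ≤ 3 ^ j := Nat.pow_le_pow_right (by norm_num) this
    have hsc : s ∈ centralizer ((Q : Subgroup G22) : Set G22) := by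
      rw [← h9]
      refine mem_centralizer_iff.2 fun v hv => ?_
      have : zpowers B ⊔ zpowers Cc ≤ centralizer ({s} : Set G22) := sup_le
        (zpowers_le.2 (mem_centralizer_singleton_iff.2 (hBcomm s (hSM hs))))
        (zpowers_le.2 (mem_centralizer_singleton_iff.2 h))
      exact mem_centralizer_singleton_iff.1 (this hv)
    rw [centralizer_sylow_three] at hsc
    have hd := Nat.dvd_gcd (card_sylow_three Q ▸ (Q : Subgroup G22).orderOf_dvd_natCard hsc)
      (hS4 ▸ S.orderOf_dvd_natCard hs)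
    rw [show Nat.gcd 9 4 = 1 from rfl, Nat.dvd_one, orderOf_eq_one_iff] at hd
    exact hd
  have hsq : ∀ s ∈ S, s * s = 1 := sq_eq_one_of_fpf hS4 hconjS hfree
  have hScomm : ∀ s ∈ S, ∀ t ∈ S, s * t = t * s := by
    intro s hs t ht
    have h := hsq _ (mul_mem hs ht)
    calc s * t = (t * t) * (s * t) * 1 := by rw [hsq t ht, one_mul, mul_one]
      _ = (t * t) * (s * t) * (s * s) := by rw [hsq s hs]
      _ = t * ((t * s) * (t * s)) * s := by group
      _ = t * s := by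
        have h' := hsq _ (mul_mem ht hs)
        rw [h', mul_one]
  -- the image of `z₁`
  have hz₁C : z₁ ∈ C := ⟨hz₁, mem_centralizer_iff.2 fun p hp => (hcen p ((p_le_cent hJ hp).1)
    (ker_central hJ (mem_sup_right hp) hb).eq).symm⟩
  set w : G22 := π ⟨z₁, hz₁C⟩ with hwdef
  have hw1 : w ≠ 1 := by
    intro e
    have hk' := (hker _).1 e
    have h3 := cube_mem_z hJ hk'
    rw [pow_succ, pow_two, hz₁2, one_mul] at h3
    exact hz₁z h3
  have hwS : w ∈ S := hall _ (hWM (hmemW _ hz₁b)) (by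
    rw [hwdef, ← map_pow, show (⟨z₁, hz₁C⟩ : C) ^ 4 = 1 from Subtype.ext (by
      show z₁ ^ 4 = 1
      rw [show 4 = 2 * 2 from rfl, pow_mul, pow_two z₁, hz₁2, one_pow]), map_one])
  -- an element of `N(P)` outside `C` fixing `b`
  obtain ⟨σ, hσD, hσC, hσb⟩ : ∃ σ ∈ H ⊓ normalizer (P : Set G), σ ∉ C ∧ σ * b = b * σ := by
    have hle := cent_le_norm hJ
    have hidx := index_cent hJ
    haveI : (C.subgroupOf (H ⊓ normalizer (P : Set G))).Normal := normal_of_index_eq_two hidx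
    obtain ⟨d, hd⟩ := index_eq_two_iff.1 hidx
    have hdC : (d : G) ∉ C := by
      intro h
      rcases hd 1 with ⟨-, h1⟩ | ⟨-, h1⟩
      · exact h1 (one_mem _)
      · exact h1 (by rw [one_mul]; exact mem_subgroupOf.2 h)
    have hb' : (d : G) * b * (d : G)⁻¹ ∈ C := mem_subgroupOf.1
      ((inferInstance : (C.subgroupOf (H ⊓ normalizer (P : Set G))).Normal).conj_mem
        ⟨b, hle hb⟩ (mem_subgroupOf.2 hb) d)
    have hb'3 : ((d : G) * b * (d : G)⁻¹) ^ 3 = 1 := by
      rw [conj_pow, hb3, mul_one, mul_inv_cancel]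
    have hb'1 : π ⟨_, hb'⟩ ≠ 1 := by
      intro e
      refine hbP ?_
      have hm := hkP _ ((hker _).1 e) hb'3
      exact (mem_normalizer_iff.1 d.2.2 b).2 hm
    have ho : orderOf (π ⟨_, hb'⟩) = 3 := orderOf_eq_prime (by
      rw [← map_pow, show (⟨_, hb'⟩ : C) ^ 3 = 1 from Subtype.ext hb'3, map_one]) hb'1
    obtain ⟨g, hg⟩ := isConj_iff.1 (isConj_three ho hB3)
    obtain ⟨e, rfl⟩ := hπ g
    set σ₁ : G := (e : G) * d with hσ₁
    have hσ₁D : σ₁ ∈ H ⊓ normalizer (P : Set G) := mul_mem (hle e.2) d.2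
    have hσ₁C : σ₁ ∉ C := fun h => hdC (by
      have := C.mul_mem (C.inv_mem e.2) h
      rwa [hσ₁, inv_mul_cancel_left] at this)
    set k : G := σ₁ * b * σ₁⁻¹ * b⁻¹ with hkdef
    have hkk : k ∈ zpowers z ⊔ P := by
      have h := (hker (e * ⟨_, hb'⟩ * e⁻¹ * (⟨b, hb⟩ : C)⁻¹)).1 (by
        rw [map_mul, map_mul, map_mul, map_inv, map_inv, hg, hBdef, mul_inv_cancel])
      have he : k = (e : G) * ((d : G) * b * (d : G)⁻¹) * (e : G)⁻¹ * b⁻¹ := by
        rw [hkdef, hσ₁]; group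
      rw [he]; exact h
    have hkb : σ₁ * b * σ₁⁻¹ = k * b := by rw [hkdef, inv_mul_cancel_right]
    have hk3 : k ^ 3 = 1 := by
      have : (k * b) ^ 3 = 1 := by rw [← hkb, conj_pow, hb3, mul_one, mul_inv_cancel]
      rwa [(ker_central hJ hkk hb : Commute k b).mul_pow, hb3, mul_one] at this
    obtain ⟨i, hi⟩ := mem_zpowers_iff.1 (hPa ▸ hkP k hkk hk3)
    have hcj : ∀ j : ℕ, c ^ j * b * (c ^ j)⁻¹ = a ^ j * b := by
      intro j
      induction j with
      | zero => simp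
      | succ j ih =>
        calc c ^ (j + 1) * b * (c ^ (j + 1))⁻¹ = c * (c ^ j * b * (c ^ j)⁻¹) * c⁻¹ := by
              rw [pow_succ']; group
          _ = c * a ^ j * c⁻¹ * (c * b * c⁻¹) := by rw [ih]; group
          _ = a ^ (j + 1) * b := by
            rw [((hac.pow_left j).symm).eq, mul_inv_cancel_right, hcb, ← mul_assoc, ← pow_succ]
    set j : ℕ := ((-i) % 3).toNat with hj
    refine ⟨c ^ j * σ₁, mul_mem (hle (pow_mem hc j)) hσ₁D, fun h => hσ₁C (by
      have := C.mul_mem (C.inv_mem (pow_mem hc j)) h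
      rwa [inv_mul_cancel_left] at this), ?_⟩
    rw [← mul_inv_eq_iff_eq_mul]
    have haj : a ^ j * k = 1 := by
      have hji : ((j : ℤ)) = (-i) % 3 := Int.toNat_of_nonneg (Int.emod_nonneg _ (by norm_num))
      rw [← hi, ← zpow_natCast, ← zpow_add, hji,
        show (-i) % 3 + i = 3 * (-((-i) / 3)) by omega, zpow_mul, zpow_ofNat, hP3 a haP, one_zpow]
    calc c ^ j * σ₁ * b * (c ^ j * σ₁)⁻¹ = c ^ j * (σ₁ * b * σ₁⁻¹) * (c ^ j)⁻¹ := by group
      _ = (c ^ j * k * (c ^ j)⁻¹) * (c ^ j * b * (c ^ j)⁻¹) := by rw [hkb]; group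
      _ = k * (a ^ j * b) := by
        rw [← ((ker_central hJ hkk (pow_mem hc j)) : Commute k (c ^ j)).eq, mul_inv_cancel_right,
          hcj]
      _ = b := by
        rw [← mul_assoc, ← ((ker_central hJ hkk (p_le_cent hJ (pow_mem haP j))) :
          Commute k (a ^ j)).symm.eq, haj, one_mul]
  -- facts about such elements
  have hinv : ∀ τ ∈ H ⊓ normalizer (P : Set G), τ ∉ C → τ * a * τ⁻¹ ≠ a := by
    intro τ hτ hτC e
    refine hτC ⟨hτ.1, mem_centralizer_iff.2 fun p hp => ?_⟩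
    obtain ⟨i, rfl⟩ := mem_zpowers_iff.1 (hPa ▸ hp)
    rw [mul_inv_eq_iff_eq_mul] at e
    exact ((show Commute τ a from e).zpow_right i).eq.symm
  have hconjC : ∀ τ ∈ H ⊓ normalizer (P : Set G), ∀ x ∈ C, τ * x * τ⁻¹ ∈ C := by
    intro τ hτ x hx
    refine ⟨H.mul_mem (H.mul_mem hτ.1 hx.1) (H.inv_mem hτ.1), mem_centralizer_iff.2 fun p hp => ?_⟩
    have hp' : τ⁻¹ * p * τ ∈ P := by
      have := (mem_normalizer_iff.1 ((normalizer (P : Set G)).inv_mem hτ.2) p).1 hp
      simpa using this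
    have hx' := mem_centralizer_iff.1 hx.2 _ hp'
    calc p * (τ * x * τ⁻¹) = τ * (τ⁻¹ * p * τ * x) * τ⁻¹ := by group
      _ = τ * (x * (τ⁻¹ * p * τ)) * τ⁻¹ := by rw [hx']
      _ = τ * x * τ⁻¹ * p := by group
  have hconjK : ∀ τ ∈ H ⊓ normalizer (P : Set G), ∀ k ∈ zpowers z ⊔ P,
      τ * k * τ⁻¹ ∈ zpowers z ⊔ P := by
    intro τ hτ k hk
    have hle : (zpowers z ⊔ P).map (MulAut.conj τ).toMonoidHom ≤ zpowers z ⊔ P := by
      rw [Subgroup.map_sup, MonoidHom.map_zpowers]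
      refine sup_le (zpowers_le.2 (mem_sup_left ?_)) ?_
      · have hτz : τ * z = z * τ := mem_centralizer_singleton_iff.1 hτ.1
        show τ * z * τ⁻¹ ∈ zpowers z
        rw [hτz, mul_inv_cancel_right]; exact mem_zpowers z
      · rintro _ ⟨p, hp, rfl⟩
        exact mem_sup_right ((mem_normalizer_iff.1 hτ.2 p).1 hp)
    exact hle ⟨k, hk, rfl⟩
  -- the automorphism induced by `σ`
  let f : C →* G22 :=
    { toFun := fun x => π ⟨σ * x * σ⁻¹, hconjC σ hσD x x.2⟩
      map_one' := by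
        rw [show (⟨σ * ((1 : C) : G) * σ⁻¹, hconjC σ hσD _ (1 : C).2⟩ : C) = 1 from
          Subtype.ext (by simp), map_one]
      map_mul' := fun x y => by
        rw [← map_mul]; exact congrArg π (Subtype.ext (by simp [mul_assoc])) }
  have hkf : π.ker ≤ f.ker := fun x hx => by
    rw [MonoidHom.mem_ker]
    show π ⟨σ * x * σ⁻¹, _⟩ = 1
    exact (hker _).2 (hconjK σ hσD _ ((hker x).1 (MonoidHom.mem_ker.1 hx)))
  let α : G22 →* G22 := π.liftOfSurjective hπ ⟨f, hkf⟩
  have hα : ∀ x : C, α (π x) = π ⟨σ * x * σ⁻¹, hconjC σ hσD x x.2⟩ := fun x =>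
    π.liftOfRightInverse_comp_apply _ (Function.rightInverse_surjInv hπ) ⟨f, hkf⟩ x
  have hαinj : ∀ g, α g = 1 → g = 1 := by
    intro g hg
    obtain ⟨x, rfl⟩ := hπ g
    rw [hα, hker] at hg
    refine (hker x).2 ?_
    have := hconjK σ⁻¹ ((H ⊓ normalizer (P : Set G)).inv_mem hσD) _ hg
    simpa [mul_assoc] using this
  have hαB : α B = B := by
    rw [hBdef, hα]
    exact congrArg π (Subtype.ext (show σ * b * σ⁻¹ = b by rw [hσb, mul_inv_cancel_right]))
  have hαw : α w = w := by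
    rw [hwdef, hα]
    exact congrArg π (Subtype.ext (show σ * z₁ * σ⁻¹ = z₁ by
      rw [← hcen σ hσD.1 hσb, mul_inv_cancel_right]))
  have hαM : ∀ m ∈ M, α m ∈ M := fun m hm => mem_centralizer_singleton_iff.2 (by
    rw [← hαB, ← map_mul, ← map_mul, mem_centralizer_singleton_iff.1 hm])
  have hαS : ∀ s ∈ S, α s ∈ S := fun s hs =>
    hall _ (hαM s (hSM hs)) (by rw [← map_pow, hpow4 s hs, map_one])
  -- `σ` moves `S`
  obtain ⟨s, hs, hsne⟩ : ∃ s ∈ S, α s ≠ s := by
    by_contra hfixS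
    push Not at hfixS
    -- centraliser of `S` in `M`
    set L : Subgroup G22 := M ⊓ centralizer (S : Set G22) with hL
    have hSL : S ≤ L := fun t ht => ⟨hSM ht, mem_centralizer_iff.2 fun u hu => hScomm u hu t ht⟩
    have hBL : B ∈ L := ⟨mem_centralizer_singleton_iff.2 rfl,
      mem_centralizer_iff.2 fun u hu => (hBcomm u (hSM hu)).symm⟩
    have hL12 : Nat.card L = 12 := by
      have hd : Nat.card L ∣ 36 := hM36 ▸ card_dvd_of_le inf_le_left
      have h4 : 4 ∣ Nat.card L := hS4 ▸ card_dvd_of_le hSL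
      have h3 : 3 ∣ Nat.card L := hB3 ▸ L.orderOf_dvd_natCard hBL
      have hne : Nat.card L ≠ 36 := fun e => by
        have hLM : L = M := eq_of_le_of_card_ge inf_le_left (by rw [hM36, e])
        have hCL : Cc ∈ L := by
          rw [hLM]
          exact hCM
        haveI : Nontrivial S := by rw [← Finite.one_lt_card_iff_nontrivial, hS4]; norm_num
        obtain ⟨t, ht⟩ := exists_ne (1 : S)
        exact ht (Subtype.ext (hfree t t.2 (mem_centralizer_iff.1 hCL.2 t t.2).symm))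
      obtain ⟨j, hj⟩ := Nat.Coprime.mul_dvd_of_dvd_of_dvd (by norm_num : Nat.Coprime 4 3) h4 h3
      have hj3 : j ∣ 3 :=
        Nat.dvd_of_mul_dvd_mul_left (by norm_num : 0 < 4 * 3) (by rw [← hj]; exact hd)
      rcases (Nat.dvd_prime Nat.prime_three).1 hj3 with rfl | rfl
      · exact hj
      · exact absurd hj hne
    have hdec : ∀ l ∈ L, ∃ i : ℕ, ∃ t ∈ S, l = B ^ i * t := by
      let ψ : Fin 3 × S → L := fun q => ⟨B ^ (q.1 : ℕ) * q.2, mul_mem (pow_mem hBL _) (hSL q.2.2)⟩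
      have hinj : Function.Injective ψ := by
        rintro ⟨i, t⟩ ⟨j, u⟩ h
        have h' : B ^ (i : ℕ) * (t : G22) = B ^ (j : ℕ) * u := congrArg Subtype.val h
        have hm : (B ^ (j : ℕ))⁻¹ * B ^ (i : ℕ) = (u : G22) * (t : G22)⁻¹ := by
          rw [eq_mul_inv_iff_mul_eq, mul_assoc, h', inv_mul_cancel_left]
        have hd := Nat.dvd_gcd (hB3 ▸ Nat.card_zpowers B ▸ (zpowers B).orderOf_dvd_natCard
          (mul_mem (inv_mem (pow_mem (mem_zpowers B) _)) (pow_mem (mem_zpowers B) _)))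
          (hS4 ▸ S.orderOf_dvd_natCard (hm ▸ S.mul_mem u.2 (S.inv_mem t.2)))
        rw [show Nat.gcd 3 4 = 1 from rfl, Nat.dvd_one, orderOf_eq_one_iff, inv_mul_eq_one] at hd
        have hij : (j : ℕ) = i := pow_injOn_Iio_orderOf (x := B)
          (by rw [Set.mem_Iio, hB3]; exact j.isLt) (by rw [Set.mem_Iio, hB3]; exact i.isLt) hd
        rw [hd, mul_right_inj] at h'
        first
          | exact Prod.ext (Fin.ext hij.symm) (Subtype.ext h')
          | (rw [← hd] at h'; exact Prod.ext (Fin.ext hij.symm) (Subtype.ext (mul_left_cancel h')))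
      have hbij := hinj.bijective_of_nat_card_le (by rw [Nat.card_prod, Nat.card_fin, hS4, hL12])
      intro l hl
      obtain ⟨⟨i, t⟩, hit⟩ := hbij.2 ⟨l, hl⟩
      exact ⟨i, t, t.2, (congrArg Subtype.val hit).symm⟩
    have hm : Cc⁻¹ * α Cc ∈ L := by
      refine ⟨M.mul_mem (M.inv_mem hCM) (hαM _ hCM), mem_centralizer_iff.2 fun t ht => ?_⟩
      have h1 : α Cc * t * (α Cc)⁻¹ = Cc * t * Cc⁻¹ := by
        have := hfixS _ (hconjS t ht)
        rwa [map_mul, map_mul, map_inv, hfixS t ht] at this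
      calc t * (Cc⁻¹ * α Cc) = Cc⁻¹ * (Cc * t * Cc⁻¹) * α Cc := by group
        _ = Cc⁻¹ * (α Cc * t * (α Cc)⁻¹) * α Cc := by rw [h1]
        _ = Cc⁻¹ * α Cc * t := by group
    obtain ⟨i, t₀, ht₀, he⟩ := hdec _ hm
    have hinvconj : ∀ t ∈ S, Cc⁻¹ * t * Cc ∈ S := fun t ht =>
      hall _ (M.mul_mem (M.mul_mem (M.inv_mem hCM) (hSM ht)) hCM) (by
        have : (Cc⁻¹ * t * Cc⁻¹⁻¹) ^ 4 = 1 := by rw [conj_pow, hpow4 t ht, mul_one, mul_inv_cancel]
        rwa [inv_inv] at this)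
    let g : S → S := fun t => ⟨Cc⁻¹ * t * Cc * t, mul_mem (hinvconj t t.2) t.2⟩
    have hg : Function.Injective g := by
      rintro ⟨u, hu⟩ ⟨v, hv⟩ h
      have h' : Cc⁻¹ * u * Cc * u = Cc⁻¹ * v * Cc * v := congrArg Subtype.val h
      have hpS := hinvconj u hu
      have hqS := hinvconj v hv
      set p := Cc⁻¹ * u * Cc
      set q := Cc⁻¹ * v * Cc
      have h1 : p * q = u * v := by
        calc p * q = p * u * (u * q) := by rw [mul_assoc p, ← mul_assoc u u, hsq u hu, one_mul]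
          _ = q * v * (u * q) := by rw [h']
          _ = v * q * (q * u) := by rw [hScomm u hu q hqS, hScomm q hqS v hv]
          _ = v * u := by rw [mul_assoc v, ← mul_assoc q q, hsq q hqS, one_mul]
          _ = u * v := hScomm v hv u hu
      refine Subtype.ext ?_
      have h2 : u * v = 1 := by
        refine hfree _ (mul_mem hu hv) ?_
        calc Cc * (u * v) = Cc * (p * q) := by rw [h1]
          _ = u * v * Cc := by simp only [p, q]; group
      calc u = u * (v * v) := by rw [hsq v hv, mul_one]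
        _ = v := by rw [← mul_assoc, h2, one_mul]
    obtain ⟨⟨t₁, ht₁⟩, hgt⟩ := (Finite.injective_iff_surjective.1 hg) ⟨t₀, ht₀⟩
    have hgt' : Cc⁻¹ * t₁ * Cc * t₁ = t₀ := congrArg Subtype.val hgt
    obtain ⟨x, hxe, hxb⟩ := hlift t₁ (hSM ht₁) (hpow4 _ ht₁)
    set τ : G := (x : G) * σ with hτ
    have hτD : τ ∈ H ⊓ normalizer (P : Set G) := mul_mem (cent_le_norm hJ x.2) hσD
    have hτC : τ ∉ C := fun h => hσC (by
      have := C.mul_mem (C.inv_mem x.2) h
      rwa [hτ, inv_mul_cancel_left] at this)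
    have hτb : τ * b = b * τ := by rw [hτ, mul_assoc, hσb, ← mul_assoc, hxb, mul_assoc]
    have hτπ : ∀ y : C, π ⟨τ * y * τ⁻¹, hconjC τ hτD y y.2⟩ = t₁ * α (π y) * t₁ := by
      intro y
      rw [show (⟨τ * y * τ⁻¹, hconjC τ hτD y y.2⟩ : C) =
        x * ⟨σ * y * σ⁻¹, hconjC σ hσD y y.2⟩ * x⁻¹ from Subtype.ext (by simp [hτ, mul_assoc]),
        map_mul, map_mul, map_inv, hxe, hα, inv_eq_of_mul_eq_one_right (hsq _ ht₁)]
    have hBi : ∀ t ∈ S, Commute (B ^ i) t := fun t ht => (show Commute B t from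
      hBcomm t (hSM ht)).pow_left i
    have hαC : t₁ * α Cc * t₁ = Cc * B ^ i := by
      have : α Cc = Cc * (B ^ i * t₀) := by rw [← he, mul_inv_cancel_left]
      rw [this]
      calc t₁ * (Cc * (B ^ i * t₀)) * t₁ = Cc * ((Cc⁻¹ * t₁ * Cc) * B ^ i * (t₀ * t₁)) := by group
        _ = Cc * (B ^ i * (Cc⁻¹ * t₁ * Cc) * (t₁ * t₀)) := by
          rw [(hBi _ (hinvconj _ ht₁)).eq, hScomm _ ht₀ _ ht₁]
        _ = Cc * (B ^ i * ((Cc⁻¹ * t₁ * Cc * t₁) * t₀)) := by group
        _ = Cc * B ^ i := by rw [hgt', hsq _ ht₀, mul_one]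
    have hτB : t₁ * α B * t₁ = B := by
      rw [hαB, ← hBcomm _ (hSM ht₁), mul_assoc, hsq _ ht₁, mul_one]
    -- the square of `τ`
    have hidx := index_cent hJ
    have hττ : τ * τ ∈ C := by
      have h := (mul_mem_iff_of_index_two hidx (a := ⟨τ, hτD⟩) (b := ⟨τ, hτD⟩)).2 Iff.rfl
      exact mem_subgroupOf.1 h
    set m : G22 := π ⟨τ * τ, hττ⟩ with hm2def
    have hm2 : ∀ y : C, m * π y * m⁻¹ = t₁ * α (t₁ * α (π y) * t₁) * t₁ := by
      intro y
      rw [← hτπ y, ← hτπ, hm2def, ← map_inv, ← map_mul, ← map_mul]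
      exact congrArg π (Subtype.ext (by simp [mul_assoc]))
    have hfixT : ∀ t ∈ S, t₁ * α t * t₁ = t := fun t ht => by
      rw [hfixS t ht, hScomm _ ht₁ _ ht, mul_assoc, hsq _ ht₁, mul_one]
    have hmM : m ∈ M := hWM (hmemW _ (by
      show τ * τ * b = b * (τ * τ)
      rw [mul_assoc, hτb, ← mul_assoc, hτb, mul_assoc]))
    have hmL : m ∈ L := by
      refine ⟨hmM, mem_centralizer_iff.2 fun t ht => ?_⟩
      obtain ⟨y, rfl⟩ := hπ t
      have h := hm2 y
      rw [hfixT _ ht, hfixT _ ht, mul_inv_eq_iff_eq_mul] at h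
      exact h.symm
    have hstep : t₁ * α (Cc * B ^ i) * t₁ = Cc * B ^ i * B ^ i := by
      rw [map_mul, map_pow, hαB]
      calc t₁ * (α Cc * B ^ i) * t₁ = t₁ * α Cc * (B ^ i * t₁) := by group
        _ = t₁ * α Cc * t₁ * B ^ i := by rw [(hBi _ ht₁).eq]; group
        _ = _ := by rw [hαC]
    have hmC : m * Cc * m⁻¹ = Cc * B ^ i * B ^ i := by
      rw [hCdef, hm2, ← hCdef, hαC, hstep]
    obtain ⟨j, t₂, ht₂, hmeq⟩ := hdec _ hmL
    have hBj : Commute (B ^ j) (t₂ * Cc * t₂⁻¹) :=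
      (show Commute B (t₂ * Cc * t₂⁻¹) from hBcomm _
        (M.mul_mem (M.mul_mem (hSM ht₂) hCM) (M.inv_mem (hSM ht₂)))).pow_left j
    have hii : B ^ i * B ^ i ∈ S := by
      have h2 : B ^ i * B ^ i = Cc⁻¹ * t₂ * Cc * t₂ := by
        have e : m * Cc * m⁻¹ = t₂ * Cc * t₂⁻¹ := by
          rw [hmeq]
          calc B ^ j * t₂ * Cc * (B ^ j * t₂)⁻¹ = B ^ j * (t₂ * Cc * t₂⁻¹) * (B ^ j)⁻¹ := by group
            _ = _ := by rw [hBj.eq, mul_inv_cancel_right]
        rw [e, inv_eq_of_mul_eq_one_right (hsq _ ht₂), mul_assoc Cc] at hmC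
        calc B ^ i * B ^ i = Cc⁻¹ * (Cc * (B ^ i * B ^ i)) := by group
          _ = Cc⁻¹ * (t₂ * Cc * t₂) := by rw [hmC]
          _ = _ := by group
      rw [h2]; exact mul_mem (hinvconj _ ht₂) ht₂
    have hB3' : B ^ 3 = 1 := by rw [← hB3, pow_orderOf_eq_one]
    have hi1 : B ^ i = 1 := by
      have hd := Nat.dvd_gcd (hB3 ▸ Nat.card_zpowers B ▸ (zpowers B).orderOf_dvd_natCard
        (mul_mem (pow_mem (mem_zpowers B) i) (pow_mem (mem_zpowers B) i)))
        (hS4 ▸ S.orderOf_dvd_natCard hii)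
      rw [show Nat.gcd 3 4 = 1 from rfl, Nat.dvd_one, orderOf_eq_one_iff] at hd
      calc B ^ i = B ^ i * (B ^ 3) ^ i := by rw [hB3', one_pow, mul_one]
        _ = (B ^ i * B ^ i) * (B ^ i * B ^ i) := by
          simp only [← pow_mul, ← pow_add]; congr 1; ring
        _ = 1 := by rw [hd, one_mul]
    -- so `τ` centralises `b` and `c` modulo the centre
    set k : G := c⁻¹ * (τ * c * τ⁻¹) with hkdef
    have hkk : k ∈ zpowers z ⊔ P := (hker ((⟨c, hc⟩ : C)⁻¹ * ⟨τ * c * τ⁻¹, hconjC τ hτD c hc⟩)).1 (by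
      rw [map_mul, map_inv, hτπ ⟨c, hc⟩, ← hCdef, hαC, hi1, mul_one, inv_mul_cancel])
    have hkb : Commute k b := ker_central hJ hkk hb
    have hτc : τ * c * τ⁻¹ = c * k := by rw [hkdef]; group
    refine hinv τ hτD hτC ?_
    have h1 : τ * (c * b * c⁻¹) * τ⁻¹ = τ * a * τ⁻¹ * b := by
      rw [hcb]
      calc τ * (a * b) * τ⁻¹ = τ * a * τ⁻¹ * (τ * b * τ⁻¹) := by group
        _ = τ * a * τ⁻¹ * b := by rw [hτb, mul_inv_cancel_right]
    have h2 : τ * (c * b * c⁻¹) * τ⁻¹ = a * b := by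
      calc τ * (c * b * c⁻¹) * τ⁻¹ = (τ * c * τ⁻¹) * (τ * b * τ⁻¹) * (τ * c * τ⁻¹)⁻¹ := by group
        _ = c * (k * b * k⁻¹) * c⁻¹ := by rw [hτc, hτb, mul_inv_cancel_right]; group
        _ = a * b := by rw [hkb.eq, mul_inv_cancel_right, hcb]
    rw [h1] at h2
    exact mul_right_cancel h2
  -- hence `α s = s * w`
  have hs1 : s ≠ 1 := fun e => hsne (by rw [e, map_one])
  have hsw : s ≠ w := fun e => hsne (by rw [e, hαw])
  have hαs : α s = s * w := by
    let g : Fin 4 → S := ![1, ⟨w, hwS⟩, ⟨s, hs⟩, ⟨s * w, mul_mem hs hwS⟩]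
    have hne1 : s * w ≠ 1 := fun e => hsw (by
      rw [mul_eq_one_iff_eq_inv, inv_eq_of_mul_eq_one_right (hsq w hwS)] at e
      exact e)
    have hg : Function.Injective g := by
      intro i j h
      have h' := congrArg (fun y : S => (y : G22)) h
      fin_cases i <;> fin_cases j <;> simp [g] at h' ⊢ <;>
        first
          | exact absurd h' hw1 | exact absurd h'.symm hw1
          | exact absurd h' hs1 | exact absurd h'.symm hs1
          | exact absurd h' hsw | exact absurd h'.symm hsw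
          | exact absurd h' hne1 | exact absurd h'.symm hne1
    have hbij := hg.bijective_of_nat_card_le (by rw [hS4, Nat.card_fin])
    obtain ⟨i, hi⟩ := hbij.2 ⟨α s, hαS s hs⟩
    have hi' := congrArg (fun y : S => (y : G22)) hi
    fin_cases i <;> simp [g] at hi'
    · exact absurd (hαinj s hi'.symm) hs1
    · refine absurd ?_ hsw
      have h := hαinj (s * w⁻¹) (by rw [map_mul, map_inv, ← hi', hαw, mul_inv_cancel])
      exact (mul_inv_eq_one.1 h)
    · exact absurd hi'.symm hsne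
    · exact hi'.symm
  obtain ⟨x, hxs, hxb⟩ := hlift s (hSM hs) (hpow4 s hs)
  set v : G := σ * x * σ⁻¹ * (x : G)⁻¹ with hvdef
  have hxK : (x : G) ∈ K := ⟨x.2.1, mem_centralizer_singleton_iff.2 hxb⟩
  have hσK : σ ∈ K := ⟨hσD.1, mem_centralizer_singleton_iff.2 hσb⟩
  have hvK : v ∈ ⁅K, K⁆ := commutator_mem_commutator hσK hxK
  have hvC : v ∈ C := C.mul_mem (hconjC σ hσD x x.2) (C.inv_mem x.2)
  set k : G := z₁⁻¹ * v with hkdef
  have hkk : k ∈ zpowers z ⊔ P := (hker ((⟨z₁, hz₁C⟩ : C)⁻¹ * ⟨v, hvC⟩)).1 (by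
    rw [map_mul, map_inv, ← hwdef, show (⟨v, hvC⟩ : C) =
      ⟨σ * x * σ⁻¹, hconjC σ hσD x x.2⟩ * x⁻¹ from Subtype.ext (by simp [hvdef]), map_mul, map_inv,
      ← hα, hxs, hαs, hScomm s hs w hwS, mul_inv_cancel_right, inv_mul_cancel])
  have hzv : Commute z₁ v := hcen v hvC.1
    (mem_centralizer_singleton_iff.1 ((commutator_le_self K) hvK).2)
  have hk3 : k ^ 3 = z₁ * v ^ 3 := by
    rw [hkdef, (hzv.inv_left).mul_pow, inv_eq_of_mul_eq_one_right hz₁2, pow_succ, pow_two, hz₁2,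
      one_mul]
  have hzle : zpowers z ≤ ⁅K, K⁆ := zpowers_le.2 hzK
  have hmem := ⁅K, K⁆.mul_mem (hzle (cube_mem_z hJ hkk)) (⁅K, K⁆.inv_mem (pow_mem hvK 3))
  rwa [hk3, mul_inv_cancel_right] at hmem

/-- Given `N(P) ≤ H`, one conjugate of `z` in `C_H(P)` outside `⟨z⟩` forces `C_H(P)` perfect and
produces a conjugate of a generator of `P` in `C_H(P)` outside `P`. -/
theorem of_fusion (hJ : IsOfJankoFourTypeWith z P)
    (hN : normalizer (P : Set G) ≤ centralizer ({z} : Set G))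
    {u : G} (hu : u ∈ centralizer ({z} : Set G) ⊓ centralizer (P : Set G)) (huz : u ∉ zpowers z)
    (hconj : IsConj u z) :
    ⁅centralizer ({z} : Set G) ⊓ centralizer (P : Set G),
        centralizer ({z} : Set G) ⊓ centralizer (P : Set G)⁆ =
      centralizer ({z} : Set G) ⊓ centralizer (P : Set G) ∧
    ∃ b ∈ centralizer ({z} : Set G) ⊓ centralizer (P : Set G), b ∉ P ∧ b ^ 3 = 1 ∧
      ∃ a ∈ P, a ≠ 1 ∧ IsConj a b := by
  classical
  haveI : Fact (Nat.Prime 3) := ⟨Nat.prime_three⟩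
  obtain ⟨a, haP, ha, hPa, -, -, -⟩ := exists_gen hJ
  obtain ⟨g₀, hg₀⟩ := isConj_iff.1 hconj
  set H : Subgroup G := centralizer ({z} : Set G) with hH
  set C : Subgroup G := H ⊓ centralizer (P : Set G) with hC
  have ha3 : a ^ 3 = 1 := by rw [← ha, pow_orderOf_eq_one]
  have hua : Commute u a := (mem_centralizer_iff.1 hu.2 a haP).symm
  have hb₀H : g₀ * a * g₀⁻¹ ∈ H := by
    refine mem_centralizer_singleton_iff.2 ?_
    conv_lhs => rw [← hg₀]
    conv_rhs => rw [← hg₀]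
    calc g₀ * a * g₀⁻¹ * (g₀ * u * g₀⁻¹) = g₀ * (a * u) * g₀⁻¹ := by group
      _ = g₀ * (u * a) * g₀⁻¹ := by rw [hua.eq]
      _ = _ := by group
  obtain ⟨h, hh, hbC⟩ := exists_conj_mem_cent hJ hb₀H (by
    rw [conj_pow, ha3, mul_one, mul_inv_cancel])
  set g : G := h * g₀ with hgdef
  have hgu : g * u * g⁻¹ = z := by
    have hhz : h * z = z * h := mem_centralizer_singleton_iff.1 hh
    calc g * u * g⁻¹ = h * (g₀ * u * g₀⁻¹) * h⁻¹ := by rw [hgdef]; group
      _ = z := by rw [hg₀, hhz, mul_inv_cancel_right]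
  set b : G := g * a * g⁻¹ with hbdef
  have hb : b ∈ C := by
    have : b = h * (g₀ * a * g₀⁻¹) * h⁻¹ := by rw [hbdef, hgdef]; group
    rw [this]; exact hbC
  have hb3 : b ^ 3 = 1 := by rw [hbdef, conj_pow, ha3, mul_one, mul_inv_cancel]
  have ha1 : a ≠ 1 := fun e => by rw [e, orderOf_one] at ha; omega
  have hbP : b ∉ P := by
    intro hbP
    have hgn : g ∈ normalizer (P : Set G) := by
      have hle : P.map (MulAut.conj g).toMonoidHom ≤ P := by
        rw [hPa, MonoidHom.map_zpowers]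
        exact zpowers_le.2 (hPa ▸ hbP)
      have hmap : P.map (MulAut.conj g).toMonoidHom = P :=
        eq_of_le_of_card_ge hle (by rw [card_map_of_injective (MulAut.conj g).injective])
      refine Subgroup.mem_normalizer_iff.2 fun p => ⟨fun hp => hle ⟨p, hp, rfl⟩, fun hp => ?_⟩
      obtain ⟨q, hq, hqe⟩ := hmap.symm ▸ hp
      exact ((MulAut.conj g).injective hqe) ▸ hq
    have hgz : g * z = z * g := mem_centralizer_singleton_iff.1 (hN hgn)
    have : g * u * g⁻¹ = g * z * g⁻¹ := by rw [hgu, hgz, mul_inv_cancel_right]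
    exact huz ((mul_left_cancel (mul_right_cancel this)).symm ▸ mem_zpowers z)
  refine ⟨?_, b, hb, hbP, hb3, a, haP, ha1, isConj_iff.2 ⟨g, rfl⟩⟩
  set z₁ : G := g * z * g⁻¹ with hz₁def
  have hz2 : z * z = 1 := by rw [← pow_two, ← hJ.1, pow_orderOf_eq_one]
  have hback : ∀ x, x * b = b * x → g⁻¹ * x * g ∈ C := by
    intro x hx
    have hxa : g⁻¹ * x * g * a = a * (g⁻¹ * x * g) := by
      calc g⁻¹ * x * g * a = g⁻¹ * (x * b) * g := by rw [hbdef]; group
        _ = g⁻¹ * (b * x) * g := by rw [hx]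
        _ = _ := by rw [hbdef]; group
    have hcP : g⁻¹ * x * g ∈ centralizer (P : Set G) := mem_centralizer_iff.2 fun p hp => by
      obtain ⟨i, rfl⟩ := mem_zpowers_iff.1 (hPa ▸ hp)
      exact ((show Commute (g⁻¹ * x * g) a from hxa).zpow_right i).eq.symm
    exact ⟨hN (centralizer_le_normalizer _ hcP), hcP⟩
  have hcen : ∀ x, x * b = b * x → z₁ * x = x * z₁ := by
    intro x hx
    have h1 : g⁻¹ * x * g * z = z * (g⁻¹ * x * g) :=
      mem_centralizer_singleton_iff.1 (hback x hx).1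
    calc z₁ * x = g * (z * (g⁻¹ * x * g)) * g⁻¹ := by rw [hz₁def]; group
      _ = g * (g⁻¹ * x * g * z) * g⁻¹ := by rw [h1]
      _ = x * z₁ := by rw [hz₁def]; group
  have hza : Commute z a := (mem_centralizer_singleton_iff.1 (p_le_cent hJ haP).1).symm
  have hz₁b : z₁ * b = b * z₁ := by
    calc z₁ * b = g * (z * a) * g⁻¹ := by rw [hz₁def, hbdef]; group
      _ = g * (a * z) * g⁻¹ := by rw [hza.eq]
      _ = b * z₁ := by rw [hz₁def, hbdef]; group
  have hz₁H : z₁ ∈ H := mem_centralizer_singleton_iff.2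
    (hcen z ((mem_centralizer_singleton_iff.1 hb.1).symm))
  have hz₁2 : z₁ * z₁ = 1 := by
    rw [hz₁def, show g * z * g⁻¹ * (g * z * g⁻¹) = g * (z * z) * g⁻¹ by group, hz2, mul_one,
      mul_inv_cancel]
  have hz₁z : z₁ ∉ zpowers z := by
    intro hmem
    obtain ⟨i, hi⟩ := mem_zpowers_iff.1 hmem
    have hival : z ^ i = z ^ (i % 2) := by
      conv_lhs => rw [← Int.emod_add_mul_ediv i 2]
      rw [zpow_add, zpow_mul, zpow_ofNat, pow_two, hz2, one_zpow, mul_one]
    rcases Int.emod_two_eq_zero_or_one i with h' | h'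
    · rw [hival, h', zpow_zero, hz₁def, eq_comm, conj_eq_one_iff] at hi
      have := hJ.1
      rw [hi, orderOf_one] at this
      omega
    · rw [hival, h', zpow_one, hz₁def] at hi
      have : g * u * g⁻¹ = g * z * g⁻¹ := by rw [hgu]; exact hi
      exact huz ((mul_left_cancel (mul_right_cancel this)).symm ▸ mem_zpowers z)
  have hm := mem_commutator_cent hJ hb hb3 hbP hz₁H hz₁b (fun x _ hx => hcen x hx) hz₁2 hz₁z
  set K : Subgroup G := H ⊓ centralizer ({b} : Set G) with hK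
  have hle : K.map (MulAut.conj g⁻¹).toMonoidHom ≤ C := by
    rintro _ ⟨x, hx, rfl⟩
    have := hback x (mem_centralizer_singleton_iff.1 hx.2)
    simpa using this
  have hz' : z ∈ ⁅C, C⁆ := by
    have h := mem_map_of_mem (MulAut.conj g⁻¹).toMonoidHom hm
    rw [map_commutator] at h
    have h' := commutator_mono hle hle h
    have e : (MulAut.conj g⁻¹).toMonoidHom z₁ = z := by
      show g⁻¹ * z₁ * g⁻¹⁻¹ = z
      rw [hz₁def]; group
    rwa [e] at h'
  exact perfect_of_z_mem hJ hz'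

end H42.J4
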