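import Cfsg.Agent.H42.J4.Cent
import Cfsg.Agent.H81.IsoPGroup

/-!
Janko-four type: a Sylow 3-subgroup of `H` is extraspecial of order `27` and exponent three, its
centre is a conjugate of `P`, and its normaliser in `H` has order `864`.
-/

set_option autoImplicit false

open Cfsg Subgroup
open scoped commutatorElement

namespace H42.J4

open H25.M22 (G22)

variable {G : Type*} [Group G] [Finite G] {z : G} {P : Subgroup G}

theorem card_three_part {m : ℕ} (hm : ¬ 3 ∣ m) : 3 ^ (27 * m).factorization 3 = 27 := by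
  have hm0 : m ≠ 0 := fun e => hm (e ▸ dvd_zero 3)
  rw [show (27 : ℕ) = 3 ^ 3 from rfl, Nat.factorization_mul (by norm_num) hm0,
    Nat.prime_three.factorization_pow, Finsupp.add_apply,
    Nat.factorization_eq_zero_of_not_dvd hm, Finsupp.single_eq_same]

/-- A 3-element of `⟨z⟩ × P` lies in `P`. -/
theorem mem_p_of_cube (hJ : IsOfJankoFourTypeWith z P) {k : G} (hk : k ∈ zpowers z ⊔ P)
    (h3 : k ^ 27 = 1) : k ∈ P := by
  obtain ⟨a, haP, ha, -, hza, -, he⟩ := exists_gen hJ
  obtain ⟨i, rfl⟩ := mem_zpowers_iff.1 (he ▸ hk)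
  rw [hza.mul_zpow] at h3 ⊢
  rw [(hza.zpow_zpow i i).mul_pow] at h3
  have hz2 : (z ^ i) ^ 2 = 1 := by
    rw [← zpow_natCast, ← zpow_mul, mul_comm, zpow_mul, zpow_natCast, ← hJ.1, pow_orderOf_eq_one,
      one_zpow]
  have ha27 : (a ^ i) ^ 27 = 1 := by
    rw [← zpow_natCast, ← zpow_mul, mul_comm, zpow_mul, zpow_natCast,
      orderOf_dvd_iff_pow_eq_one.1 (by rw [ha]; norm_num), one_zpow]
  rw [ha27, mul_one, show 27 = 2 * 13 + 1 from rfl, pow_succ, pow_mul, hz2, one_pow, one_mul] at h3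
  rw [h3, one_mul]
  exact zpow_mem haP i

/-- Everything about a subgroup of order 27 of `C_H(P)`. -/
theorem of_le_cent (hJ : IsOfJankoFourTypeWith z P) {R : Subgroup G}
    (hR : R ≤ centralizer ({z} : Set G) ⊓ centralizer (P : Set G)) (hR27 : Nat.card R = 27) :
    IsExtraspecial 3 ↥R ∧ Monoid.exponent ↥R = 3 ∧
      centralizer ({z} : Set G) ⊓ normalizer (R : Set G) ≤ normalizer (P : Set G) ∧
      normalizer (R : Set G) ≤ normalizer (P : Set G) ∧
      Nat.card ↥(centralizer ({z} : Set G) ⊓ normalizer (R : Set G)) = 864 := by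
  classical
  haveI : Fact (Nat.Prime 3) := ⟨Nat.prime_three⟩
  set C : Subgroup G := centralizer ({z} : Set G) ⊓ centralizer (P : Set G) with hC
  obtain ⟨π, hπ, hk⟩ := exists_hom_cent hJ
  obtain ⟨a, haP, ha, hPa, -, -, -⟩ := exists_gen hJ
  have hker : ∀ c : ↥C, π c = 1 ↔ (c : G) ∈ zpowers z ⊔ P := fun c => by
    rw [← MonoidHom.mem_ker, hk, mem_subgroupOf]
  have hcardC : Nat.card C = 6 * 443520 := card_cent hJ
  have hPC : P ≤ C := p_le_cent hJ
  have hcent : ∀ p ∈ P, ∀ c ∈ C, Commute p c := fun p hp c hc =>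
    ker_central hJ (mem_sup_right hp) hc
  -- `P ≤ R`
  let S : Sylow 3 C := Sylow.ofCard (R.subgroupOf C) (by
    rw [Nat.card_congr (subgroupOfEquivOfLe hR).toEquiv, hR27, hcardC,
      show 6 * 443520 = 27 * 98560 by norm_num, card_three_part (by norm_num)])
  haveI : (P.subgroupOf C).Normal := ⟨fun n hn g => by
    rw [mem_subgroupOf] at hn ⊢
    rw [Subgroup.coe_mul, Subgroup.coe_mul, Subgroup.coe_inv,
      ← (hcent n hn g g.2).eq, mul_inv_cancel_right]
    exact hn⟩
  have hPp : IsPGroup 3 ↥(P.subgroupOf C) := IsPGroup.of_card (n := 1) (by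
    rw [Nat.card_congr (subgroupOfEquivOfLe hPC).toEquiv, hJ.2.2.2.2.2.1, pow_one])
  have hPR : P ≤ R := by
    obtain ⟨Q, hQ⟩ := hPp.exists_le_sylow
    obtain ⟨c, hc⟩ := MulAction.exists_smul_eq C Q S
    intro p hp
    have hp' : (⟨p, hPC hp⟩ : C) ∈ ((c • Q : Sylow 3 C) : Subgroup C) := by
      rw [Sylow.coe_subgroup_smul]
      refine ⟨⟨p, hPC hp⟩, hQ (mem_subgroupOf.2 hp), Subtype.ext ?_⟩
      show (c : G) * p * (c : G)⁻¹ = p
      rw [← (hcent p hp c c.2).eq, mul_inv_cancel_right]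
    rw [hc] at hp'
    exact mem_subgroupOf.1 hp'
  have hPRker : ∀ (x : G) (hx : x ∈ R), π ⟨x, hR hx⟩ = 1 → x ∈ P := fun x hx h =>
    mem_p_of_cube hJ ((hker _).1 h) (orderOf_dvd_iff_pow_eq_one.1 (hR27 ▸ R.orderOf_dvd_natCard hx))
  -- the image is a Sylow subgroup of `M22`
  set Q : Subgroup G22 := (R.subgroupOf C).map π with hQ
  have hQ9 : Nat.card Q = 9 := by
    have hkR : (π.comp (R.subgroupOf C).subtype).ker ≃ P := {
      toFun := fun x => ⟨((x.1 : C) : G), hPRker _ (mem_subgroupOf.1 x.1.2) (MonoidHom.mem_ker.1 x.2)⟩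
      invFun := fun p => ⟨⟨⟨p, hPC p.2⟩, mem_subgroupOf.2 (hPR p.2)⟩, MonoidHom.mem_ker.2
        ((hker _).2 (mem_sup_right p.2))⟩
      left_inv := fun x => rfl
      right_inv := fun p => rfl }
    have h := (π.comp (R.subgroupOf C).subtype).ker.card_mul_index
    rw [index_ker, MonoidHom.range_comp, range_subtype, Nat.card_congr hkR, hJ.2.2.2.2.2.1,
      Nat.card_congr (subgroupOfEquivOfLe hR).toEquiv, hR27] at h
    rw [hQ]
    omega
  let SQ : Sylow 3 G22 := Sylow.ofCard Q (by rw [hQ9, fac_three]; norm_num)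
  have hQmem : ∀ x ∈ R, ∀ h : x ∈ C, π ⟨x, h⟩ ∈ (SQ : Subgroup G22) := fun x hx h =>
    ⟨⟨x, h⟩, mem_subgroupOf.2 hx, rfl⟩
  -- commutators and cubes lie in `P`
  have hcomm : ∀ x ∈ R, ∀ y ∈ R, ⁅x, y⁆ ∈ P := by
    intro x hx y hy
    refine hPRker _ (mul_mem (mul_mem (mul_mem hx hy) (inv_mem hx)) (inv_mem hy)) ?_
    show π ⁅(⟨x, hR hx⟩ : C), ⟨y, hR hy⟩⁆ = 1
    rw [map_commutatorElement, commutatorElement_eq_one_iff_mul_comm]
    exact sylow_three_comm SQ _ (hQmem x hx _) _ (hQmem y hy _)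
  have hcube : ∀ x ∈ R, x ^ 3 ∈ P := by
    intro x hx
    refine hPRker _ (pow_mem hx 3) ?_
    show π ((⟨x, hR hx⟩ : C) ^ 3) = 1
    rw [map_pow]
    exact pow_three_sylow SQ (hQmem x hx _)
  have hP3 : ∀ p ∈ P, p ^ 3 = 1 := fun p hp => by
    rw [← orderOf_dvd_iff_pow_eq_one, ← hJ.2.2.2.2.2.1]
    exact P.orderOf_dvd_natCard hp
  have hmul : ∀ x ∈ R, ∀ y ∈ R, (x * y) ^ 3 = x ^ 3 * y ^ 3 := by
    intro x hx y hy
    have hc := hcomm y hy x hx
    set c := ⁅y, x⁆ with hcdef
    have hyx : y * x = c * (x * y) := by rw [hcdef, commutatorElement_def]; group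
    have hcx : Commute c x := hcent c hc x (hR hx)
    have hcy : Commute c y := hcent c hc y (hR hy)
    calc (x * y) ^ 3 = x * (y * x) * (y * x) * y := by simp only [pow_succ, pow_zero, one_mul]; group
      _ = x * (c * (x * y)) * (c * (x * y)) * y := by rw [hyx]
      _ = c * c * (x * x * (y * x) * y * y) := by
        rw [← mul_assoc x c, ← hcx.eq]
        have h2 : Commute c (c * x * (x * y)) :=
          ((Commute.refl c).mul_right hcx).mul_right (hcx.mul_right hcy)
        rw [← mul_assoc (c * x * (x * y)) c, ← h2.eq]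
        group
      _ = c * c * (x * x * (c * (x * y)) * y * y) := by rw [hyx]
      _ = c * c * c * (x * x * (x * y) * y * y) := by
        rw [← mul_assoc (x * x) c, ← (hcx.mul_right hcx).eq]; group
      _ = x ^ 3 * y ^ 3 := by
        rw [show c * c * c = c ^ 3 by simp [pow_succ, mul_assoc], hP3 c hc]
        simp only [pow_succ, pow_zero, one_mul]; group
  -- nonabelian, by transfer
  have hna : ¬ IsMulCommutative ↥R := by
    intro hab
    let φ : ↥(R.subgroupOf C) →* ↥R := (subgroupOfEquivOfLe hR).toMonoidHom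
    letI : CommGroup ↥R := { (inferInstance : Group ↥R) with mul_comm := hab.is_comm.comm }
    have hkey : ∀ (k : ℕ) (g₀ : C), g₀⁻¹ * (⟨a, hPC haP⟩ : C) ^ k * g₀ ∈ R.subgroupOf C →
        g₀⁻¹ * (⟨a, hPC haP⟩ : C) ^ k * g₀ = (⟨a, hPC haP⟩ : C) ^ k := by
      intro k g₀ _
      refine Subtype.ext ?_
      show (g₀ : G)⁻¹ * a ^ k * g₀ = a ^ k
      rw [mul_assoc, (hcent _ (pow_mem haP k) g₀ g₀.2).eq, inv_mul_cancel_left]
    have htr := MonoidHom.transfer_eq_pow φ (⟨a, hPC haP⟩ : C) hkey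
    have hd : (⟨a, hPC haP⟩ : C) ∈ _root_.commutator ↥C := by
      have h := hJ.2.2.2.2.2.2.2.2 haP
      have hC' : ⁅C, C⁆ = (_root_.commutator ↥C).map C.subtype := by
        rw [_root_.commutator_def, map_commutator, ← MonoidHom.range_eq_map, range_subtype]
      replace h : a ∈ ⁅C, C⁆ := h
      rw [hC'] at h
      obtain ⟨x, hx, hxe⟩ := h
      exact (Subtype.ext hxe : x = ⟨a, hPC haP⟩) ▸ hx
    have h1 := Abelianization.commutator_subset_ker (MonoidHom.transfer φ) hd
    rw [MonoidHom.mem_ker, htr] at h1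
    have h2 : a ^ (R.subgroupOf C).index = 1 := congrArg Subtype.val h1
    have hi : (R.subgroupOf C).index = 98560 := by
      have h := (R.subgroupOf C).card_mul_index
      rw [Nat.card_congr (subgroupOfEquivOfLe hR).toEquiv, hR27, hcardC] at h
      omega
    rw [hi, ← orderOf_dvd_iff_pow_eq_one, ha] at h2
    norm_num at h2
  -- exponent three
  have hexp : ∀ x ∈ R, x ^ 3 = 1 := by
    let f : ↥R →* ↥P :=
      { toFun := fun x => ⟨(x : G) ^ 3, hcube x x.2⟩
        map_one' := Subtype.ext (one_pow 3)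
        map_mul' := fun x y => Subtype.ext (hmul x x.2 y y.2) }
    obtain ⟨y, hy, hyP⟩ : ∃ y : ↥R, y ∈ f.ker ∧ (y : G) ∉ P := by
      by_contra hall
      push Not at hall
      have h := f.ker.card_mul_index
      have hle : Nat.card f.ker ≤ 3 := by
        rw [← hJ.2.2.2.2.2.1]
        exact Nat.card_le_card_of_injective (fun y : f.ker => (⟨((y : ↥R) : G), hall _ y.2⟩ : P))
          fun u v e => Subtype.ext (Subtype.ext (congrArg (fun w : P => (w : G)) e))
      have hle2 : f.ker.index ≤ 3 := by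
        rw [index_ker, ← hJ.2.2.2.2.2.1]
        exact card_le_of_le (le_top (a := f.range)) |>.trans (by rw [card_top])
      rw [hR27] at h
      nlinarith
    have hy3 : (y : G) ^ 3 = 1 := congrArg Subtype.val (MonoidHom.mem_ker.1 hy)
    intro x hx
    by_cases hxP : x ∈ P
    · exact hP3 x hxP
    have hne : ∀ (w : G) (hw : w ∈ R), w ∉ P → orderOf (π ⟨w, hR hw⟩) = 3 := fun w hw hwP =>
      orderOf_of_mem_sylow_three SQ (hQmem w hw _) fun e => hwP (hPRker w hw e)
    obtain ⟨g, hg⟩ := isConj_iff.1 (isConj_three (hne y y.2 hyP) (hne x hx hxP))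
    obtain ⟨c, rfl⟩ := hπ g
    set k : C := (c * ⟨y, hR y.2⟩ * c⁻¹)⁻¹ * ⟨x, hR hx⟩ with hkdef
    have hkk : (k : G) ∈ zpowers z ⊔ P := (hker k).1 (by
      rw [hkdef, map_mul, map_inv, map_mul, map_mul, map_inv, hg, inv_mul_cancel])
    have hxk : x = (c : G) * y * (c : G)⁻¹ * k := by
      rw [hkdef]; simp only [Subgroup.coe_mul, Subgroup.coe_inv]; group
    have hcube' : x ^ 3 = (k : G) ^ 3 := by
      rw [hxk, (ker_central hJ hkk (mul_mem (mul_mem c.2 (hR y.2)) (inv_mem c.2))).symm.mul_pow,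
        conj_pow, hy3, mul_one, mul_inv_cancel, one_mul]
    have hk27 : (k : G) ^ 27 = 1 := by
      rw [show 27 = 3 * 9 from rfl, pow_mul, ← hcube', ← pow_mul, show 3 * 9 = 27 from rfl]
      exact orderOf_dvd_iff_pow_eq_one.1 (hR27 ▸ R.orderOf_dvd_natCard hx)
    rw [hcube', hP3 _ (mem_p_of_cube hJ hkk hk27)]
  have hES : IsExtraspecial 3 ↥R := H81.Iso.extraspecial_of_cube (p := 3) (by rw [hR27]; rfl) hna
    fun v => Subtype.ext (hexp v v.2)
  -- the centre of `R` is `P`
  have hZP : ∀ w ∈ R, (∀ u ∈ R, u * w = w * u) → w ∈ P := by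
    have heq : (center ↥R) = P.subgroupOf R := by
      refine (eq_of_le_of_card_ge (fun p hp => mem_center_iff.2 fun u => Subtype.ext
        (hcent p (mem_subgroupOf.1 hp) u (hR u.2)).eq.symm) ?_).symm
      rw [hES.2, Nat.card_congr (subgroupOfEquivOfLe hPR).toEquiv, hJ.2.2.2.2.2.1]
    intro w hw hwc
    have : (⟨w, hw⟩ : ↥R) ∈ center ↥R := mem_center_iff.2 fun u => Subtype.ext (hwc u u.2)
    rw [heq] at this
    exact mem_subgroupOf.1 this
  have hNR : normalizer (R : Set G) ≤ normalizer (P : Set G) := by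
    intro g hg
    have key : ∀ g ∈ normalizer (R : Set G), ∀ p ∈ P, g * p * g⁻¹ ∈ P := by
      intro g hg p hp
      refine hZP _ ((mem_normalizer_iff.1 hg p).1 (hPR hp)) fun u hu => ?_
      have hu' : g⁻¹ * u * g ∈ R := by
        have := (mem_normalizer_iff.1 ((normalizer (R : Set G)).inv_mem hg) u).1 hu
        simpa using this
      calc u * (g * p * g⁻¹) = g * (g⁻¹ * u * g * p) * g⁻¹ := by group
        _ = g * (p * (g⁻¹ * u * g)) * g⁻¹ := by rw [(hcent p hp _ (hR hu')).eq]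
        _ = g * p * g⁻¹ * u := by group
    refine Subgroup.mem_normalizer_iff.2 fun p => ⟨key g hg p, fun h => ?_⟩
    have := key _ ((normalizer (R : Set G)).inv_mem hg) _ h
    simpa [mul_assoc] using this
  refine ⟨hES, ?_, inf_le_right.trans hNR, hNR, ?_⟩
  · haveI : Nontrivial ↥R := by rw [← Finite.one_lt_card_iff_nontrivial, hR27]; norm_num
    exact (Nat.prime_three.eq_one_or_self_of_dvd _ (Monoid.exponent_dvd_of_forall_pow_eq_one
      fun v => Subtype.ext (hexp v v.2))).resolve_left fun h => by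
        obtain ⟨v, hv⟩ := exists_ne (1 : ↥R)
        exact hv (by simpa [h] using Monoid.pow_exponent_eq_one v)
  -- counting
  set D : Subgroup G := centralizer ({z} : Set G) ⊓ normalizer (P : Set G) with hD
  set M : Subgroup G := centralizer ({z} : Set G) ⊓ normalizer (R : Set G) with hM
  have hMD : M ≤ D := le_inf inf_le_left (inf_le_right.trans hNR)
  -- inside `C`
  have hNC : (M ⊓ C).subgroupOf C = (normalizer ((SQ : Subgroup G22) : Set G22)).comap π := by
    have hfor : ∀ c : C, (c : G) ∈ normalizer (R : Set G) → ∀ q ∈ (SQ : Subgroup G22),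
        π c * q * (π c)⁻¹ ∈ (SQ : Subgroup G22) := by
      rintro c hc _ ⟨⟨x, hxC⟩, hx, rfl⟩
      have hx' := (mem_normalizer_iff.1 hc x).1 (mem_subgroupOf.1 hx)
      exact ⟨c * ⟨x, hxC⟩ * c⁻¹, mem_subgroupOf.2 hx', by simp⟩
    ext c
    rw [mem_subgroupOf, mem_comap, Subgroup.mem_inf, hM, Subgroup.mem_inf]
    constructor
    · intro h
      refine Subgroup.mem_normalizer_iff.2 fun q => ⟨hfor c h.1.2 q, fun hq => ?_⟩
      have := hfor c⁻¹ (by simpa using (normalizer (R : Set G)).inv_mem h.1.2) _ hq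
      simpa [mul_assoc] using this
    · intro h
      refine ⟨⟨c.2.1, ?_⟩, c.2⟩
      have key : ∀ c : C, π c ∈ normalizer ((SQ : Subgroup G22) : Set G22) →
          ∀ x ∈ R, (c : G) * x * (c : G)⁻¹ ∈ R := by
        intro c h x hx
        obtain ⟨⟨r, hrC⟩, hr, hre⟩ := (mem_normalizer_iff.1 h _).1 (hQmem x hx (hR hx))
        have hr' : r ∈ R := mem_subgroupOf.1 hr
        set k : C := ⟨r, hrC⟩⁻¹ * (c * ⟨x, hR hx⟩ * c⁻¹) with hkdef
        have hkk : (k : G) ∈ zpowers z ⊔ P := (hker k).1 (by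
          rw [hkdef, map_mul, map_inv, hre, map_mul, map_mul, map_inv, inv_mul_cancel])
        have hk : (k : G) = r⁻¹ * (c * x * (c : G)⁻¹) := rfl
        have hk3 : (k : G) ^ 3 = 1 := by
          have h1 : ((c : G) * x * (c : G)⁻¹) ^ 3 = 1 := by
            rw [conj_pow, hexp x hx, mul_one, mul_inv_cancel]
          have h2 : (c : G) * x * (c : G)⁻¹ = r * k := by rw [hk]; group
          rw [h2, (ker_central hJ hkk hrC).symm.mul_pow, hexp r hr', one_mul] at h1
          exact h1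
        have hkP : (k : G) ∈ P := mem_p_of_cube hJ hkk (by
          rw [show 27 = 3 * 9 from rfl, pow_mul, hk3, one_pow])
        have := mul_mem hr' (hPR hkP)
        rw [hk] at this
        simpa using this
      refine Subgroup.mem_normalizer_iff.2 fun x => ⟨key c h x, fun hx => ?_⟩
      have := key c⁻¹ (by rw [map_inv]; exact (normalizer _).inv_mem h) _ hx
      simpa [mul_assoc] using this
  have hMC : Nat.card ↥(M ⊓ C : Subgroup G) = 432 := by
    rw [← Nat.card_congr (subgroupOfEquivOfLe (inf_le_right : M ⊓ C ≤ C)).toEquiv, hNC]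
    have h1 := ((normalizer ((SQ : Subgroup G22) : Set G22)).comap π).card_mul_index
    have h2 := (normalizer ((SQ : Subgroup G22) : Set G22)).card_mul_index
    rw [index_comap_of_surjective _ hπ, hcardC] at h1
    rw [card_normalizer_sylow_three, H25.M22.card22] at h2
    have hi : (normalizer ((SQ : Subgroup G22) : Set G22)).index = 6160 := by omega
    rw [hi] at h1
    exact Nat.eq_of_mul_eq_mul_right (by norm_num : 0 < 6160) (h1.trans (by norm_num))
  have hidx : (C.subgroupOf D).index = 2 := index_cent hJ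
  haveI : (C.subgroupOf D).Normal := normal_of_index_eq_two hidx
  have hidxM : ((M ⊓ C).subgroupOf M).index = 2 := by
    obtain ⟨d, hd⟩ := index_eq_two_iff.1 hidx
    have hdC : (d : G) ∉ C := by
      intro h
      rcases hd 1 with ⟨-, h1⟩ | ⟨-, h1⟩
      · exact h1 (one_mem _)
      · exact h1 (by simpa [mem_subgroupOf] using h)
    -- Frattini
    have hconjC : ∀ x ∈ C, (d : G) * x * (d : G)⁻¹ ∈ C := fun x hx =>
      mem_subgroupOf.1 ((inferInstance : (C.subgroupOf D).Normal).conj_mem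
        ⟨x, cent_le_norm hJ hx⟩ (mem_subgroupOf.2 hx) d)
    let R₂ : Subgroup G := R.map (MulAut.conj (d : G)).toMonoidHom
    have hR₂C : R₂ ≤ C := by rintro _ ⟨x, hx, rfl⟩; exact hconjC x (hR hx)
    let S₂ : Sylow 3 C := Sylow.ofCard (R₂.subgroupOf C) (by
      rw [Nat.card_congr (subgroupOfEquivOfLe hR₂C).toEquiv,
        card_map_of_injective (MulAut.conj (d : G)).injective, hR27, hcardC,
        show 6 * 443520 = 27 * 98560 by norm_num, card_three_part (by norm_num)])
    obtain ⟨c, hc⟩ := MulAction.exists_smul_eq C S S₂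
    have hmem : ∀ x ∈ R, (c : G) * x * (c : G)⁻¹ ∈ R₂ := by
      intro x hx
      have h1 : c * ⟨x, hR hx⟩ * c⁻¹ ∈ ((c • S : Sylow 3 C) : Subgroup C) := by
        rw [Sylow.coe_subgroup_smul]
        exact ⟨⟨x, hR hx⟩, by simpa [S, mem_subgroupOf] using hx, by simp⟩
      rw [hc] at h1
      simpa [S₂, mem_subgroupOf] using h1
    have hn : (d : G)⁻¹ * c ∈ normalizer (R : Set G) := by
      refine Subgroup.mem_normalizer_iff.2 fun x => ?_
      have key : ∀ x ∈ R, (d : G)⁻¹ * c * x * ((d : G)⁻¹ * c)⁻¹ ∈ R := by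
        intro x hx
        obtain ⟨q, hq, hqe⟩ := hmem x hx
        have hqe' : (d : G) * q * (d : G)⁻¹ = c * x * (c : G)⁻¹ := hqe
        have : (d : G)⁻¹ * c * x * ((d : G)⁻¹ * c)⁻¹ = q := by
          calc _ = (d : G)⁻¹ * (c * x * (c : G)⁻¹) * d := by group
            _ = q := by rw [← hqe']; group
        exact this ▸ hq
      refine ⟨key x, fun hx => ?_⟩
      have hmap : R.map (MulAut.conj ((d : G)⁻¹ * c)).toMonoidHom = R :=
        eq_of_le_of_card_ge (by rintro _ ⟨q, hq, rfl⟩; exact key q hq)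
          (by rw [card_map_of_injective (MulAut.conj ((d : G)⁻¹ * c)).injective])
      obtain ⟨q, hq, hqe⟩ := hmap.symm ▸ hx
      exact ((MulAut.conj ((d : G)⁻¹ * c)).injective hqe) ▸ hq
    have hnM : (d : G)⁻¹ * c ∈ M :=
      ⟨(centralizer ({z} : Set G)).mul_mem ((centralizer ({z} : Set G)).inv_mem d.2.1) c.2.1, hn⟩
    have hnC : (d : G)⁻¹ * c ∉ C := fun h => hdC (by
      have := C.mul_mem c.2 (C.inv_mem h); simpa using this)
    rw [index_eq_two_iff]
    refine ⟨⟨_, hnM⟩, fun b => ?_⟩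
    simp only [mem_subgroupOf, Subgroup.coe_mul, Subgroup.mem_inf]
    have hb := mul_mem_iff_of_index_two hidx (a := ⟨(b : G), hMD b.2⟩)
      (b := ⟨(d : G)⁻¹ * c, hMD hnM⟩)
    simp only [mem_subgroupOf, Subgroup.coe_mul] at hb
    by_cases hbC : (b : G) ∈ C
    · exact Or.inr ⟨⟨b.2, hbC⟩, fun h => hnC (hb.1 h.2 |>.1 hbC)⟩
    · exact Or.inl ⟨⟨M.mul_mem b.2 hnM, hb.2 (iff_of_false hbC hnC)⟩, fun h => hbC h.2⟩
  rw [← card_mul_index ((M ⊓ C).subgroupOf M), hidxM,
    Nat.card_congr (subgroupOfEquivOfLe (inf_le_left : M ⊓ C ≤ M)).toEquiv, hMC]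

/-- The local half of S5565. -/
theorem sylow_three_local (hJ : IsOfJankoFourTypeWith z P) (R : Sylow 3 G)
    (hR : (R : Subgroup G) ≤ centralizer ({z} : Set G)) :
    IsExtraspecial 3 ↥(R : Subgroup G) ∧ Nat.card ↥(R : Subgroup G) = 27 ∧
      Monoid.exponent ↥(R : Subgroup G) = 3 ∧
      Nat.card ↥(centralizer ({z} : Set G) ⊓ normalizer ((R : Subgroup G) : Set G)) = 864 ∧
      (normalizer (P : Set G) ≤ centralizer ({z} : Set G) →
        normalizer ((R : Subgroup G) : Set G) ≤ centralizer ({z} : Set G)) := by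
  classical
  haveI : Fact (Nat.Prime 3) := ⟨Nat.prime_three⟩
  set H : Subgroup G := centralizer ({z} : Set G) with hH
  set C : Subgroup G := H ⊓ centralizer (P : Set G) with hC
  have hcardH : Nat.card H = 3 * 2 ^ 13 * Nat.card (MulAut G22) := (exists_hom_norm hJ).1
  have hfacH : 3 ^ (Nat.card H).factorization 3 = 27 := by
    rw [hcardH, card_aut22, show 3 * 2 ^ 13 * 887040 = 27 * (2 ^ 13 * 98560) by norm_num,
      card_three_part (by norm_num)]
  obtain ⟨S⟩ : Nonempty (Sylow 3 C) := inferInstance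
  have hS27 : Nat.card ((S : Subgroup C).map C.subtype) = 27 := by
    rw [card_map_of_injective C.subtype_injective, S.card_eq_multiplicity, card_cent hJ,
      show 6 * 443520 = 27 * 98560 by norm_num, card_three_part (by norm_num)]
  set R₀ : Subgroup G := (S : Subgroup C).map C.subtype with hR₀
  have hR₀C : R₀ ≤ C := map_subtype_le _
  have hR₀H : R₀ ≤ H := hR₀C.trans inf_le_left
  let T₀ : Sylow 3 H := Sylow.ofCard (R₀.subgroupOf H) (by
    rw [Nat.card_congr (subgroupOfEquivOfLe hR₀H).toEquiv, hS27, hfacH])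
  obtain ⟨h, hh⟩ := MulAction.exists_smul_eq H T₀ (R.subtype hR)
  have hR27 : Nat.card (R : Subgroup G) = 27 := by
    rw [← Nat.card_congr (subgroupOfEquivOfLe hR).toEquiv, ← Sylow.coe_subtype R (h := hR),
      (R.subtype hR).card_eq_multiplicity, hfacH]
  have hmap : R₀.map (MulAut.conj (h : G)).toMonoidHom = (R : Subgroup G) := by
    refine eq_of_le_of_card_ge ?_ (by
      rw [card_map_of_injective (MulAut.conj (h : G)).injective, hS27, hR27])
    rintro _ ⟨x, hx, rfl⟩
    have h1 : h * ⟨x, hR₀H hx⟩ * h⁻¹ ∈ ((h • T₀ : Sylow 3 H) : Subgroup H) := by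
      rw [Sylow.coe_subgroup_smul]
      exact ⟨⟨x, hR₀H hx⟩, by simpa [T₀, mem_subgroupOf] using hx, by simp⟩
    rw [hh] at h1
    simpa [mem_subgroupOf] using h1
  obtain ⟨hES, hexp, -, hNP, h864⟩ := of_le_cent hJ hR₀C hS27
  let e : ↥R₀ ≃* ↥(R : Subgroup G) := ((MulAut.conj (h : G)).subgroupMap R₀).trans
    (MulEquiv.subgroupCongr hmap)
  have hN : ∀ g : G, g ∈ normalizer ((R : Subgroup G) : Set G) ↔
      (h : G)⁻¹ * g * h ∈ normalizer (R₀ : Set G) := by
    intro g
    rw [Subgroup.mem_normalizer_iff, Subgroup.mem_normalizer_iff, ← hmap]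
    have hm : ∀ x, x ∈ R₀.map (MulAut.conj (h : G)).toMonoidHom ↔ (h : G)⁻¹ * x * h ∈ R₀ := by
      intro x
      rw [mem_map_equiv, MulAut.conj_symm_apply]
    constructor
    · intro H1 x
      have := H1 ((h : G) * x * (h : G)⁻¹)
      rw [hm, hm] at this
      simpa [mul_assoc] using this
    · intro H1 x
      have := H1 ((h : G)⁻¹ * x * h)
      rw [hm, hm]
      simpa [mul_assoc] using this
  refine ⟨?_, hR27, ?_, ?_, fun hle g hg => ?_⟩
  · refine H81.Iso.extraspecial_of_cube (p := 3) (by rw [hR27]; rfl) (fun hab => ?_) fun v => ?_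
    · have h3 := hES.2
      have htop : center ↥R₀ = ⊤ := eq_top_iff.2 fun x _ => mem_center_iff.2 fun y => e.injective (by
        rw [map_mul, map_mul]; exact hab.is_comm.comm _ _)
      rw [htop, card_top, hS27] at h3
      norm_num at h3
    · obtain ⟨w, rfl⟩ := e.surjective v
      have h3 : w ^ 3 = 1 := by
        have := Monoid.pow_exponent_eq_one w
        rwa [hexp] at this
      rw [← map_pow, h3, map_one]
  · rw [← Monoid.exponent_eq_of_mulEquiv e, hexp]
  · rw [← h864]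
    refine Nat.card_congr ((MulAut.conj (h : G)).symm.toEquiv.subtypeEquiv fun g => ?_)
    simp only [MulEquiv.toEquiv_eq_coe, MulEquiv.coe_toEquiv, MulAut.conj_symm_apply,
      Subgroup.mem_inf, hN g]
    refine and_congr_left fun _ => ⟨fun hg => H.mul_mem (H.mul_mem (H.inv_mem h.2) hg) h.2,
      fun hg => ?_⟩
    have := H.mul_mem (H.mul_mem h.2 hg) (H.inv_mem h.2)
    simpa [mul_assoc] using this
  · have := hle (hNP ((hN g).1 hg))
    have := H.mul_mem (H.mul_mem h.2 this) (H.inv_mem h.2)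
    simpa [mul_assoc] using this

end H42.J4
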