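import Cfsg.Agent.H42.J4.M22Facts
import Cfsg.Prelude.Def_JankoFourType

/-!
Janko-four type: the centraliser `C` of `P` in `H = C(z)` maps onto `M22` with kernel `⟨z⟩ × P`,
which is its centre, and it has index two in the normaliser of `P` in `H`.
-/

set_option autoImplicit false

open Cfsg Subgroup
open scoped commutatorElement

namespace H42.J4

open H25.M22 (G22)

theorem card_aut22 : Nat.card (MulAut G22) = 887040 := by
  have h := card_mul_index (MulAut.conj : G22 →* MulAut G22).range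
  have hi : (MulAut.conj : G22 →* MulAut G22).range.index = 2 := H97.MOut.card_out_M22
  have hinj : Function.Injective (MulAut.conj : G22 →* MulAut G22) := by
    rw [← MonoidHom.ker_eq_bot_iff, eq_bot_iff]
    intro g hg
    rw [← center22]
    refine mem_center_iff.2 fun x => ?_
    have h := DFunLike.congr_fun (MonoidHom.mem_ker.1 hg) x
    rw [MulAut.conj_apply, MulAut.one_apply, mul_inv_eq_iff_eq_mul] at h
    exact h.symm
  rw [← Nat.card_congr (MonoidHom.ofInjective hinj).toEquiv, hi, H25.M22.card22] at h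
  exact h.symm

theorem conj22_injective : Function.Injective (MulAut.conj : G22 →* MulAut G22) := by
  rw [← MonoidHom.ker_eq_bot_iff, eq_bot_iff]
  intro g hg
  rw [← center22]
  refine mem_center_iff.2 fun x => ?_
  have h := DFunLike.congr_fun (MonoidHom.mem_ker.1 hg) x
  rw [MulAut.conj_apply, MulAut.one_apply, mul_inv_eq_iff_eq_mul] at h
  exact h.symm

/-- The inner automorphisms are the only subgroup of index two of `Aut M22`. -/
theorem eq_inn_of_index_two {K : Subgroup (MulAut G22)} (hK : K.index = 2) :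
    K = (MulAut.conj : G22 →* MulAut G22).range := by
  haveI : K.Normal := normal_of_index_eq_two hK
  have hle : (MulAut.conj : G22 →* MulAut G22).range ≤ K := by
    rintro _ ⟨g, rfl⟩
    let f : G22 →* MulAut G22 ⧸ K := (QuotientGroup.mk' K).comp MulAut.conj
    haveI : Fact (Nat.Prime 2) := ⟨Nat.prime_two⟩
    haveI : IsCyclic (MulAut G22 ⧸ K) := isCyclic_of_prime_card (p := 2) (by rw [← index_eq_card, hK])
    have hc : _root_.commutator G22 ≤ f.ker := by
      rw [_root_.commutator_def, commutator_le]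
      intro a _ b _
      rw [MonoidHom.mem_ker, map_commutatorElement, commutatorElement_eq_one_iff_mul_comm]
      exact IsMulCommutative.is_comm.comm _ _
    have hg := hc (perfect22.symm ▸ mem_top g)
    exact (QuotientGroup.eq_one_iff _).1 (MonoidHom.mem_ker.1 hg)
  have hi : (MulAut.conj : G22 →* MulAut G22).range.index = 2 := H97.MOut.card_out_M22
  refine le_antisymm ?_ hle
  have h := relIndex_mul_index hle
  rw [hi, hK] at h
  exact relIndex_eq_one.1 (by omega)

variable {G : Type*} [Group G] {z : G} {P : Subgroup G}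

theorem cent_le_norm (hJ : IsOfJankoFourTypeWith z P) :
    centralizer ({z} : Set G) ⊓ centralizer (P : Set G) ≤
      centralizer ({z} : Set G) ⊓ normalizer (P : Set G) :=
  inf_le_inf_left _ (centralizer_le_normalizer _)

theorem z_mem_core (hJ : IsOfJankoFourTypeWith z P) : z ∈ twoCoreOfCentralizer z := by
  obtain ⟨-, -, -, -, -, -, hfix, -, -⟩ := hJ
  exact (inf_le_left : _ ⊓ centralizer (P : Set G) ≤ _) (hfix.symm ▸ mem_zpowers z)

theorem z_mem_cent (hJ : IsOfJankoFourTypeWith z P) :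
    z ∈ centralizer ({z} : Set G) ⊓ centralizer (P : Set G) := by
  obtain ⟨-, -, -, -, -, -, hfix, -, -⟩ := hJ
  exact ⟨mem_centralizer_singleton_iff.2 rfl,
    (inf_le_right : twoCoreOfCentralizer z ⊓ _ ≤ _) (hfix.symm ▸ mem_zpowers z)⟩

theorem p_le_cent (hJ : IsOfJankoFourTypeWith z P) :
    P ≤ centralizer ({z} : Set G) ⊓ centralizer (P : Set G) := by
  obtain ⟨-, -, -, -, -, -, -, -, hder⟩ := hJ
  exact hder.trans (commutator_le_self _)

theorem p_comm (hJ : IsOfJankoFourTypeWith z P) {a b : G} (ha : a ∈ P) (hb : b ∈ P) :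
    a * b = b * a :=
  (mem_centralizer_iff.1 (mem_inf.1 (p_le_cent hJ hb)).2 a ha)

/-- A generator of `⟨z⟩ × P`. -/
theorem exists_gen (hJ : IsOfJankoFourTypeWith z P) :
    ∃ a ∈ P, orderOf a = 3 ∧ P = zpowers a ∧ Commute z a ∧ orderOf (z * a) = 6 ∧
      zpowers z ⊔ P = zpowers (z * a) := by
  haveI : Fact (Nat.Prime 3) := ⟨Nat.prime_three⟩
  have hz := hJ.1
  have hP3 : Nat.card P = 3 := hJ.2.2.2.2.2.1
  haveI : Finite P := Nat.finite_of_card_ne_zero (by omega)
  obtain ⟨⟨a, haP⟩, ha⟩ := exists_prime_orderOf_dvd_card' (G := P) 3 (by rw [hP3])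
  rw [← Subgroup.orderOf_coe] at ha
  have hPa : P = zpowers a := (eq_of_le_of_card_ge (zpowers_le.2 haP) (by
    rw [hP3, Nat.card_zpowers, ha])).symm
  have hza : Commute z a := (mem_centralizer_singleton_iff.1 (mem_inf.1 (p_le_cent hJ haP)).1).symm
  have hz2 : z ^ 2 = 1 := by rw [← hz, pow_orderOf_eq_one]
  have ha3 : a ^ 3 = 1 := by rw [← ha, pow_orderOf_eq_one]
  refine ⟨a, haP, ha, hPa, hza, ?_, le_antisymm (sup_le ?_ ?_) ?_⟩
  · rw [hza.orderOf_mul_eq_mul_orderOf_of_coprime (by rw [hz, ha]; norm_num), hz, ha]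
  · refine zpowers_le.2 ?_
    have : (z * a) ^ 3 = z := by rw [hza.mul_pow, ha3, mul_one, pow_succ, hz2, one_mul]
    have h := pow_mem (mem_zpowers (z * a)) 3
    rwa [this] at h
  · rw [hPa]
    refine zpowers_le.2 ?_
    have : (z * a) ^ 4 = a := by
      rw [hza.mul_pow, show 4 = 2 * 2 from rfl, pow_mul, hz2, one_pow, one_mul,
        show 2 * 2 = 3 + 1 from rfl, pow_succ, ha3, one_mul]
    have h := pow_mem (mem_zpowers (z * a)) 4
    rwa [this] at h
  · exact zpowers_le.2 (mul_mem (mem_sup_left (mem_zpowers z)) (mem_sup_right haP))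

theorem card_ker (hJ : IsOfJankoFourTypeWith z P) : Nat.card ↥(zpowers z ⊔ P) = 6 := by
  obtain ⟨a, -, -, -, -, h6, he⟩ := exists_gen hJ
  rw [he, Nat.card_zpowers, h6]

theorem ker_le (hJ : IsOfJankoFourTypeWith z P) :
    zpowers z ⊔ P ≤ centralizer ({z} : Set G) ⊓ centralizer (P : Set G) :=
  sup_le (zpowers_le.2 (z_mem_cent hJ)) (p_le_cent hJ)

theorem ker_central (hJ : IsOfJankoFourTypeWith z P) {k c : G} (hk : k ∈ zpowers z ⊔ P)
    (hc : c ∈ centralizer ({z} : Set G) ⊓ centralizer (P : Set G)) : Commute k c := by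
  obtain ⟨a, haP, -, -, -, -, he⟩ := exists_gen hJ
  obtain ⟨i, rfl⟩ := mem_zpowers_iff.1 (he ▸ hk)
  refine Commute.zpow_left ?_ i
  exact Commute.mul_left (mem_centralizer_singleton_iff.1 hc.1).symm
    (mem_centralizer_iff.1 hc.2 a haP)

variable [Finite G]

/-- The normaliser of `P` in `H` maps onto `Aut M22` with kernel `⟨z⟩ × P`, and
`|H| = 3 · 2 ^ 13 · |Aut M22|`. -/
theorem exists_hom_norm (hJ : IsOfJankoFourTypeWith z P) :
    Nat.card ↥(centralizer ({z} : Set G)) = 3 * 2 ^ 13 * Nat.card (MulAut G22) ∧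
    ∃ φ : ↥(centralizer ({z} : Set G) ⊓ normalizer (P : Set G)) →* MulAut G22,
      Function.Surjective φ ∧
        φ.ker = (zpowers z ⊔ P).subgroupOf (centralizer ({z} : Set G) ⊓ normalizer (P : Set G)) := by
  classical
  haveI : Fact (Nat.Prime 3) := ⟨Nat.prime_three⟩
  have hzC := z_mem_cent hJ
  have hPC := p_le_cent hJ
  obtain ⟨hz, hE, hE13, -, ⟨N, hEN, hNH, hHN, hN, ⟨hn, ⟨e⟩⟩, hPN⟩, hP3, hfix, -, -⟩ := hJ
  set H : Subgroup G := centralizer ({z} : Set G) with hH
  set E : Subgroup G := twoCoreOfCentralizer z with hEdef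
  set D : Subgroup G := H ⊓ normalizer (P : Set G) with hD
  haveI := hn
  have hEconj : ∀ h ∈ H, ∀ x ∈ E, h * x * h⁻¹ ∈ E := by
    rintro h hh _ ⟨x, hx, rfl⟩
    exact ⟨(⟨h, hh⟩ : H) * x * (⟨h, hh⟩ : H)⁻¹,
      (inferInstance : (pCore 2 ↥H).Normal).conj_mem x hx _, rfl⟩
  have hdisj : ∀ x ∈ E, x ∈ P → x = 1 := by
    intro x hxE hxP
    have h1 : orderOf x ∣ 2 ^ 13 := hE13 ▸ E.orderOf_dvd_natCard hxE
    have h2 : orderOf x ∣ 3 := hP3 ▸ P.orderOf_dvd_natCard hxP
    exact orderOf_eq_one_iff.1 (Nat.eq_one_of_dvd_coprimes (by norm_num) h1 h2)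
  have hPH : P ≤ H := hPN.trans hNH
  -- every element of `N` is a product
  have hprod : ∀ x ∈ N, ∃ u ∈ E, ∃ q ∈ P, x = u * q := by
    let f : E × P → N := fun w => ⟨w.1.1 * w.2.1, mul_mem (hEN w.1.2) (hPN w.2.2)⟩
    have hinj : Function.Injective f := by
      rintro ⟨u, q⟩ ⟨u', q'⟩ h
      have h' : (u : G) * q = u' * q' := congrArg Subtype.val h
      have h1 : (u' : G)⁻¹ * u = q' * (q : G)⁻¹ := by
        rw [eq_mul_inv_iff_mul_eq, mul_assoc, h', inv_mul_cancel_left]
      have h2 := hdisj _ (mul_mem (inv_mem u'.2) u.2) (h1 ▸ mul_mem q'.2 (inv_mem q.2))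
      have hu : u = u' := Subtype.ext (inv_mul_eq_one.1 h2).symm
      subst hu
      exact Prod.ext rfl (Subtype.ext (mul_left_cancel h'))
    have hbij := hinj.bijective_of_nat_card_le (by rw [Nat.card_prod, hN, hP3]; ring_nf; rfl)
    intro x hx
    obtain ⟨⟨u, q⟩, huq⟩ := hbij.2 ⟨x, hx⟩
    exact ⟨u, u.2, q, q.2, (congrArg Subtype.val huq).symm⟩
  -- `N ⊓ N(P) = ⟨z⟩ × P`
  have hND : ∀ x ∈ D, x ∈ N ↔ x ∈ zpowers z ⊔ P := by
    refine fun x hx => ⟨fun hxN => ?_, fun h => ?_⟩
    · obtain ⟨u, hu, q, hq, rfl⟩ := hprod x hxN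
      refine mul_mem (mem_sup_left ?_) (mem_sup_right hq)
      rw [← hfix]
      refine ⟨hu, mem_centralizer_iff.2 fun p hp => ?_⟩
      have hun : u ∈ normalizer (P : Set G) := by
        have := (normalizer (P : Set G)).mul_mem hx.2 ((normalizer (P : Set G)).inv_mem (le_normalizer hq))
        simpa using this
      have h1 : u * p * u⁻¹ * p⁻¹ ∈ P := mul_mem ((mem_normalizer_iff.1 hun p).1 hp) (inv_mem hp)
      have h2 : u * p * u⁻¹ * p⁻¹ ∈ E := by
        have := mul_mem hu (hEconj p (hPH hp) _ (inv_mem hu))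
        simpa [mul_assoc] using this
      have h3 := hdisj _ h2 h1
      rw [mul_inv_eq_one, mul_inv_eq_iff_eq_mul] at h3
      exact h3.symm
    · exact (sup_le (zpowers_le.2 (hEN ((inf_le_left : E ⊓ centralizer (P : Set G) ≤ E)
        (hfix.symm ▸ mem_zpowers z)))) hPN) h
  have hcardH : Nat.card ↥H = 3 * 2 ^ 13 * Nat.card (MulAut G22) := by
    rw [← card_mul_index (N.subgroupOf H), Nat.card_congr (subgroupOfEquivOfLe hNH).toEquiv,
      index_eq_card, Nat.card_congr e.toEquiv, hN, hE13]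
  refine ⟨hcardH, (e.toMonoidHom.comp (QuotientGroup.mk' (N.subgroupOf H))).comp
    (inclusion (inf_le_left : D ≤ H)), ?_, ?_⟩
  · intro y
    obtain ⟨⟨h, hh⟩, hhy⟩ := QuotientGroup.mk'_surjective (N.subgroupOf H) (e.symm y)
    -- Frattini: correct `h` by an element of `N`
    have hPN' : ∀ p ∈ P, h * p * h⁻¹ ∈ N := fun p hp => (mem_normalizer_iff.1 (hHN hh) p).1 (hPN hp)
    let P₂ : Subgroup G := P.map (MulAut.conj h).toMonoidHom
    have hP₂N : P₂ ≤ N := by
      rintro _ ⟨p, hp, rfl⟩; exact hPN' p hp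
    have hfac : 3 ^ (Nat.card ↥N).factorization 3 = 3 := by
      rw [hN, hE13, Nat.factorization_mul (by norm_num) (by norm_num), Finsupp.add_apply,
        Nat.prime_three.factorization_self,
        Nat.factorization_eq_zero_of_not_dvd (show ¬ 3 ∣ 2 ^ 13 by norm_num)]
      rfl
    let S₁ : Sylow 3 N := Sylow.ofCard (P.subgroupOf N) (by
      rw [Nat.card_congr (subgroupOfEquivOfLe hPN).toEquiv, hP3, hfac])
    let S₂ : Sylow 3 N := Sylow.ofCard (P₂.subgroupOf N) (by
      rw [Nat.card_congr (subgroupOfEquivOfLe hP₂N).toEquiv, hfac,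
        card_map_of_injective (MulAut.conj h).injective, hP3])
    obtain ⟨⟨n, hn'⟩, hn2⟩ := MulAction.exists_smul_eq N S₁ S₂
    have hmem : ∀ p ∈ P, n * p * n⁻¹ ∈ P₂ := by
      intro p hp
      have h1 : (⟨n, hn'⟩ : N) * ⟨p, hPN hp⟩ * (⟨n, hn'⟩ : N)⁻¹ ∈
          (((⟨n, hn'⟩ : N) • S₁ : Sylow 3 N) : Subgroup N) := by
        rw [Sylow.coe_subgroup_smul]
        exact ⟨⟨p, hPN hp⟩, by simpa [S₁, mem_subgroupOf] using hp, by simp⟩
      rw [hn2] at h1
      simpa [S₂, mem_subgroupOf] using h1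
    have hnorm : h⁻¹ * n ∈ normalizer (P : Set G) := by
      refine Subgroup.mem_normalizer_iff.2 fun p => ?_
      have key : ∀ p ∈ P, h⁻¹ * n * p * (h⁻¹ * n)⁻¹ ∈ P := by
        intro p hp
        obtain ⟨q, hq, hqe⟩ := hmem p hp
        have : h⁻¹ * n * p * (h⁻¹ * n)⁻¹ = q := by
          have hqe' : h * q * h⁻¹ = n * p * n⁻¹ := hqe
          calc _ = h⁻¹ * (n * p * n⁻¹) * h := by group
            _ = q := by rw [← hqe']; group
        exact this ▸ hq
      refine ⟨key p, fun hp => ?_⟩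
      have hmap : P.map (MulAut.conj (h⁻¹ * n)).toMonoidHom = P :=
        eq_of_le_of_card_ge (by rintro _ ⟨q, hq, rfl⟩; exact key q hq)
          (by rw [card_map_of_injective (MulAut.conj (h⁻¹ * n)).injective])
      obtain ⟨q, hq, hqe⟩ := hmap.symm ▸ hp
      have : q = p := (MulAut.conj (h⁻¹ * n)).injective hqe
      exact this ▸ hq
    have hd : n⁻¹ * h ∈ D := ⟨H.mul_mem (H.inv_mem (hNH hn')) hh, by
      have := (normalizer (P : Set G)).inv_mem hnorm; rwa [mul_inv_rev, inv_inv] at this⟩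
    refine ⟨⟨_, hd⟩, ?_⟩
    have hq : QuotientGroup.mk' (N.subgroupOf H) (inclusion (inf_le_left : D ≤ H) ⟨_, hd⟩) =
        e.symm y := by
      rw [← hhy]
      refine QuotientGroup.eq.2 (mem_subgroupOf.2 ?_)
      show (n⁻¹ * h)⁻¹ * h ∈ N
      have : (n⁻¹ * h)⁻¹ * h = h⁻¹ * n * h⁻¹⁻¹ := by group
      rw [this]
      exact (mem_normalizer_iff.1 (inv_mem (hHN hh)) n).1 hn'
    show e (QuotientGroup.mk' (N.subgroupOf H) (inclusion (inf_le_left : D ≤ H) ⟨_, hd⟩)) = y
    rw [hq, MulEquiv.apply_symm_apply]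
  · ext x
    rw [MonoidHom.mem_ker, mem_subgroupOf, ← hND x x.2]
    show e (QuotientGroup.mk' (N.subgroupOf H) (inclusion (inf_le_left : D ≤ H) x)) = 1 ↔ _
    rw [MulEquiv.map_eq_one_iff, QuotientGroup.mk'_apply, QuotientGroup.eq_one_iff, mem_subgroupOf]
    rfl

/-- `C_H(P)` has index two in `N_H(P)`. -/
theorem index_cent (hJ : IsOfJankoFourTypeWith z P) :
    ((centralizer ({z} : Set G) ⊓ centralizer (P : Set G)).subgroupOf
      (centralizer ({z} : Set G) ⊓ normalizer (P : Set G))).index = 2 := by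
  obtain ⟨a, haP, ha, hPa, hza, -, -⟩ := exists_gen hJ
  have hle := cent_le_norm hJ
  have hne := hJ.2.2.2.2.2.2.2.1
  obtain ⟨d, hdD, hdC⟩ : ∃ d ∈ centralizer ({z} : Set G) ⊓ normalizer (P : Set G),
      d ∉ centralizer ({z} : Set G) ⊓ centralizer (P : Set G) := by
    by_contra hall
    push Not at hall
    exact hne (le_antisymm hall hle)
  have key : ∀ x ∈ centralizer ({z} : Set G) ⊓ normalizer (P : Set G),
      x ∈ centralizer ({z} : Set G) ⊓ centralizer (P : Set G) ∨ x * a * x⁻¹ = a⁻¹ := by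
    intro x hx
    have hxa : x * a * x⁻¹ ∈ zpowers a := hPa ▸ (mem_normalizer_iff.1 hx.2 a).1 haP
    obtain ⟨i, hi⟩ := mem_zpowers_iff.1 hxa
    have hi3 : a ^ i = a ^ (i % 3) := by
      conv_lhs => rw [← Int.emod_add_mul_ediv i 3]
      rw [zpow_add, zpow_mul, show ((3 : ℤ)) = ((3 : ℕ) : ℤ) from rfl, zpow_natCast, ← ha,
        pow_orderOf_eq_one, one_zpow, mul_one]
    have h0 := Int.emod_nonneg i (show (3 : ℤ) ≠ 0 by norm_num)
    have h3 := Int.emod_lt_of_pos i (show (0 : ℤ) < 3 by norm_num)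
    rw [← hi, hi3]
    interval_cases hm : i % 3
    · exfalso
      rw [hi3, zpow_zero, eq_comm, conj_eq_one_iff] at hi
      rw [hi, orderOf_one] at ha
      omega
    · left
      refine ⟨hx.1, mem_centralizer_iff.2 fun p hp => ?_⟩
      obtain ⟨j, rfl⟩ := mem_zpowers_iff.1 (hPa ▸ hp)
      rw [hi3, zpow_one, eq_comm, mul_inv_eq_iff_eq_mul] at hi
      exact ((show Commute x a from hi).zpow_right j).eq.symm
    · right
      rw [zpow_ofNat, ← mul_eq_one_iff_eq_inv, ← pow_succ, show 2 + 1 = 3 from rfl, ← ha,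
        pow_orderOf_eq_one]
  rw [index_eq_two_iff]
  refine ⟨⟨d, hdD⟩, fun b => ?_⟩
  have hd' := (key d hdD).resolve_left hdC
  simp only [mem_subgroupOf, Subgroup.coe_mul]
  by_cases hb : (b : G) ∈ centralizer ({z} : Set G) ⊓ centralizer (P : Set G)
  · refine Or.inr ⟨hb, fun h => hdC ?_⟩
    simpa using mul_mem (inv_mem hb) h
  · refine Or.inl ⟨⟨mul_mem b.2.1 hdD.1, mem_centralizer_iff.2 fun p hp => ?_⟩, hb⟩
    have hb' := (key b b.2).resolve_left hb
    have : (b : G) * d * a * ((b : G) * d)⁻¹ = a := by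
      calc (b : G) * d * a * ((b : G) * d)⁻¹ = b * (d * a * d⁻¹) * (b : G)⁻¹ := by group
        _ = ((b : G) * a * (b : G)⁻¹)⁻¹ := by rw [hd']; group
        _ = a := by rw [hb', inv_inv]
    obtain ⟨j, rfl⟩ := mem_zpowers_iff.1 (hPa ▸ hp)
    rw [mul_inv_eq_iff_eq_mul] at this
    exact ((show Commute ((b : G) * d) a from this).zpow_right j).eq.symm

/-- `C_H(P)` maps onto `M22` with kernel `⟨z⟩ × P`. -/
theorem exists_hom_cent (hJ : IsOfJankoFourTypeWith z P) :
    ∃ π : ↥(centralizer ({z} : Set G) ⊓ centralizer (P : Set G)) →* G22,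
      Function.Surjective π ∧
        π.ker = (zpowers z ⊔ P).subgroupOf (centralizer ({z} : Set G) ⊓ centralizer (P : Set G)) := by
  classical
  have hle := cent_le_norm hJ
  set C : Subgroup G := centralizer ({z} : Set G) ⊓ centralizer (P : Set G) with hC
  set D : Subgroup G := centralizer ({z} : Set G) ⊓ normalizer (P : Set G) with hD
  obtain ⟨-, φ, hφ, hker⟩ := exists_hom_norm hJ
  have hkC : φ.ker ≤ C.subgroupOf D := by
    rw [hker]; exact fun x hx => mem_subgroupOf.2 (ker_le hJ (mem_subgroupOf.1 hx))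
  have hidx : ((C.subgroupOf D).map φ).index = 2 := by
    rw [index_map_eq _ hφ hkC, index_cent hJ]
  have himg := eq_inn_of_index_two hidx
  let e := MonoidHom.ofInjective conj22_injective
  let f : ↥C →* MulAut G22 := φ.comp (inclusion hle)
  have hmem : ∀ c : ↥C, f c ∈ (MulAut.conj : G22 →* MulAut G22).range := fun c => by
    rw [← himg]; exact ⟨inclusion hle c, mem_subgroupOf.2 c.2, rfl⟩
  refine ⟨e.symm.toMonoidHom.comp (f.codRestrict _ hmem), ?_, ?_⟩
  · intro g
    obtain ⟨d, hd, hdg⟩ : (MulAut.conj g) ∈ (C.subgroupOf D).map φ := by rw [himg]; exact ⟨g, rfl⟩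
    refine ⟨⟨d.1, mem_subgroupOf.1 hd⟩, ?_⟩
    apply e.injective
    show e (e.symm _) = e g
    rw [MulEquiv.apply_symm_apply]
    exact Subtype.ext hdg
  · ext c
    rw [MonoidHom.mem_ker, mem_subgroupOf]
    show e.symm (f.codRestrict _ hmem c) = 1 ↔ _
    rw [MulEquiv.map_eq_one_iff, Subtype.ext_iff]
    show φ (inclusion hle c) = 1 ↔ _
    rw [← MonoidHom.mem_ker, hker, mem_subgroupOf]
    rfl

theorem card_cent (hJ : IsOfJankoFourTypeWith z P) :
    Nat.card ↥(centralizer ({z} : Set G) ⊓ centralizer (P : Set G)) = 6 * 443520 := by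
  obtain ⟨π, hπ, hk⟩ := exists_hom_cent hJ
  rw [← π.ker.card_mul_index, hk, Nat.card_congr (subgroupOfEquivOfLe (ker_le hJ)).toEquiv,
    card_ker hJ, ← hk, index_ker, MonoidHom.range_eq_top.2 hπ, card_top, H25.M22.card22]

/-- The centre of `C_H(P)` is `⟨z⟩ × P`; it is cyclic of order six and the quotient is `M22`. -/
theorem center_cent (hJ : IsOfJankoFourTypeWith z P) :
    center ↥(centralizer ({z} : Set G) ⊓ centralizer (P : Set G)) =
        (zpowers z ⊔ P).subgroupOf (centralizer ({z} : Set G) ⊓ centralizer (P : Set G)) ∧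
    IsCyclic ↥(center ↥(centralizer ({z} : Set G) ⊓ centralizer (P : Set G))) ∧
    Nat.card ↥(center ↥(centralizer ({z} : Set G) ⊓ centralizer (P : Set G))) = 6 ∧
    Spor.IsoM22 (↥(centralizer ({z} : Set G) ⊓ centralizer (P : Set G)) ⧸
      center ↥(centralizer ({z} : Set G) ⊓ centralizer (P : Set G))) := by
  obtain ⟨π, hπ, hk⟩ := exists_hom_cent hJ
  have hcen : center ↥(centralizer ({z} : Set G) ⊓ centralizer (P : Set G)) = π.ker := by
    refine le_antisymm (fun x hx => ?_) fun x hx => ?_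
    · have : π x ∈ center G22 := mem_center_iff.2 fun g => by
        obtain ⟨c, rfl⟩ := hπ g
        rw [← map_mul, ← map_mul, mem_center_iff.1 hx c]
      rwa [center22, mem_bot] at this
    · rw [hk, mem_subgroupOf] at hx
      exact mem_center_iff.2 fun c => Subtype.ext (ker_central hJ hx c.2).eq.symm
  have e := subgroupOfEquivOfLe (ker_le hJ)
  refine ⟨hcen.trans hk, ?_, ?_, ?_⟩
  · rw [hcen, hk]
    obtain ⟨a, -, -, -, -, -, he⟩ := exists_gen hJ
    haveI : IsCyclic ↥(zpowers z ⊔ P) := he ▸ inferInstance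
    exact isCyclic_of_surjective e.symm e.symm.surjective
  · rw [hcen, hk, Nat.card_congr e.toEquiv, card_ker hJ]
  · exact ⟨(QuotientGroup.quotientMulEquivOfEq hcen).trans
      (QuotientGroup.quotientKerEquivOfSurjective π hπ)⟩

/-- `C_H(P)` is generated by its commutator subgroup and `z`. -/
theorem commutator_sup_zpowers (hJ : IsOfJankoFourTypeWith z P) :
    ⁅centralizer ({z} : Set G) ⊓ centralizer (P : Set G),
      centralizer ({z} : Set G) ⊓ centralizer (P : Set G)⁆ ⊔ zpowers z =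
      centralizer ({z} : Set G) ⊓ centralizer (P : Set G) := by
  have hP := hJ.2.2.2.2.2.2.2.2
  set C : Subgroup G := centralizer ({z} : Set G) ⊓ centralizer (P : Set G) with hC
  obtain ⟨π, hπ, hk⟩ := exists_hom_cent hJ
  refine le_antisymm (sup_le (commutator_le_self _) (zpowers_le.2 (z_mem_cent hJ))) fun c hc => ?_
  have hmap : π ⟨c, hc⟩ ∈ Subgroup.map π (_root_.commutator ↥C) := by
    rw [_root_.commutator_def, map_commutator, map_top_of_surjective π hπ, ← _root_.commutator_def, perfect22]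
    exact mem_top _
  obtain ⟨d, hd, hdc⟩ := hmap
  have hd' : (d : G) ∈ ⁅C, C⁆ := by
    have h := mem_map_of_mem C.subtype hd
    rwa [_root_.commutator_def, map_commutator, ← MonoidHom.range_eq_map, range_subtype] at h
  have hker : d⁻¹ * ⟨c, hc⟩ ∈ π.ker := by
    rw [MonoidHom.mem_ker, map_mul, map_inv, hdc, inv_mul_cancel]
  rw [hk, mem_subgroupOf] at hker
  have hk' : (d : G)⁻¹ * c ∈ ⁅C, C⁆ ⊔ zpowers z :=
    (sup_le le_sup_right (hP.trans le_sup_left)) hker
  simpa using mul_mem (mem_sup_left hd') hk'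

/-- Perfectness of `C_H(P)` reduces to `z` lying in the commutator subgroup. -/
theorem perfect_of_z_mem (hJ : IsOfJankoFourTypeWith z P)
    (hz : z ∈ ⁅centralizer ({z} : Set G) ⊓ centralizer (P : Set G),
      centralizer ({z} : Set G) ⊓ centralizer (P : Set G)⁆) :
    ⁅centralizer ({z} : Set G) ⊓ centralizer (P : Set G),
      centralizer ({z} : Set G) ⊓ centralizer (P : Set G)⁆ =
      centralizer ({z} : Set G) ⊓ centralizer (P : Set G) := by
  have h := commutator_sup_zpowers hJ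
  rwa [sup_eq_left.2 (zpowers_le.2 hz)] at h

end H42.J4
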