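import Cfsg.Agent.H42.J4.Sylow

/-!
Janko-four type: elements of order three of `C_H(P)` outside `P` have nonabelian centraliser in `E`,
and every element of order three of `H` is conjugate into `C_H(P)`.
-/

set_option autoImplicit false

open Cfsg Subgroup
open scoped commutatorElement

namespace H42.J4

open H25.M22 (G22)

/-- A commutative group of exponent two normalised by two commuting elements of order three, all
of whose four cyclic subgroups act without fixed points, is trivial. -/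
theorem eq_one_of_fpf {Q : Type*} [Group Q] (A : Subgroup Q) {a b : Q}
    (hAc : ∀ u ∈ A, ∀ v ∈ A, u * v = v * u) (hA2 : ∀ u ∈ A, u * u = 1)
    (ha : ∀ u ∈ A, a * u * a⁻¹ ∈ A) (hb : ∀ u ∈ A, b * u * b⁻¹ ∈ A)
    (hab : Commute a b) (ha3 : a ^ 3 = 1) (hb3 : b ^ 3 = 1)
    (hfix : ∀ x ∈ ({a, b, a * b, a * a * b} : Set Q), ∀ u ∈ A, x * u * x⁻¹ = u → u = 1) :
    ∀ y ∈ A, y = 1 := by
  classical
  intro y hy
  have hpow : ∀ x : Q, (∀ u ∈ A, x * u * x⁻¹ ∈ A) → x ^ 3 = 1 →
      (∀ u ∈ A, x * u * x⁻¹ = u → u = 1) →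
      ∀ u ∈ A, u * (x * u * x⁻¹) * (x * x * u * (x * x)⁻¹) = 1 := by
    intro x hx hx3 hxf u hu
    have h1 := hx u hu
    have h2 : x * x * u * (x * x)⁻¹ ∈ A := by
      have := hx _ h1
      simpa [mul_assoc] using this
    refine hxf _ (mul_mem (mul_mem hu h1) h2) ?_
    have h33 : x * x * x = 1 := by rw [← hx3]; simp [pow_succ, mul_assoc]
    calc x * (u * (x * u * x⁻¹) * (x * x * u * (x * x)⁻¹)) * x⁻¹
        = (x * u * x⁻¹) * (x * x * u * (x * x)⁻¹) * ((x * x * x) * u * (x * x * x)⁻¹) := by group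
      _ = (x * u * x⁻¹) * (x * x * u * (x * x)⁻¹) * u := by rw [h33]; group
      _ = u * ((x * u * x⁻¹) * (x * x * u * (x * x)⁻¹)) := hAc _ (mul_mem h1 h2) _ hu
      _ = _ := by rw [mul_assoc u]
  have haab : ∀ u ∈ A, a * a * b * u * (a * a * b)⁻¹ ∈ A := fun u hu => by
    have := ha _ (ha _ (hb u hu)); simpa [mul_assoc] using this
  have hab' : ∀ u ∈ A, a * b * u * (a * b)⁻¹ ∈ A := fun u hu => by
    have := ha _ (hb u hu); simpa [mul_assoc] using this
  have e1 : (a * b) ^ 3 = 1 := by rw [hab.mul_pow, ha3, hb3, one_mul]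
  have e2 : (a * a * b) ^ 3 = 1 := by
    rw [(hab.mul_left hab).mul_pow, (Commute.refl a).mul_pow, ha3, hb3, one_mul, one_mul]
  let T : Q → A := fun x => if h : x * y * x⁻¹ ∈ A then ⟨_, h⟩ else 1
  have hT : ∀ x, x * y * x⁻¹ ∈ A → ((T x : A) : Q) = x * y * x⁻¹ := fun x h => by simp [T, h]
  have m10 : a * y * a⁻¹ ∈ A := ha y hy
  have m20 : a * a * y * (a * a)⁻¹ ∈ A := by have := ha _ m10; simpa [mul_assoc] using this
  have m11 : a * b * y * (a * b)⁻¹ ∈ A := hab' y hy
  have m21 : a * a * b * y * (a * a * b)⁻¹ ∈ A := haab y hy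
  have m12 : a * (b * b) * y * (a * (b * b))⁻¹ ∈ A := by
    have := ha _ (hb _ (hb y hy)); simpa [mul_assoc] using this
  have m22 : a * a * (b * b) * y * (a * a * (b * b))⁻¹ ∈ A := by
    have := ha _ (ha _ (hb _ (hb y hy))); simpa [mul_assoc] using this
  letI : CommGroup A :=
    { (inferInstance : Group A) with mul_comm := fun u v => Subtype.ext (hAc u u.2 v v.2) }
  set y0 : A := ⟨y, hy⟩
  set t10 := T a
  set t20 := T (a * a)
  set t11 := T (a * b)
  set t21 := T (a * a * b)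
  set t12 := T (a * (b * b))
  set t22 := T (a * a * (b * b))
  have hba : b * a = a * b := hab.eq.symm
  have ha33 : a * a * a = 1 := by rw [← ha3]; simp [pow_succ, mul_assoc]
  have r1 : t10 * t11 * t12 = 1 := Subtype.ext (by
    have h := hpow b hb hb3 (hfix b (by simp)) _ m10
    simp only [t10, t11, t12, Subgroup.coe_mul, hT _ m10, hT _ m11, hT _ m12, OneMemClass.coe_one]
    rw [← h, hab.eq, show a * (b * b) = b * b * a from (hab.mul_right hab).eq]
    group)
  have r2 : t20 * t21 * t22 = 1 := Subtype.ext (by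
    have h := hpow b hb hb3 (hfix b (by simp)) _ m20
    simp only [t20, t21, t22, Subgroup.coe_mul, hT _ m20, hT _ m21, hT _ m22, OneMemClass.coe_one]
    rw [← h, (hab.mul_left hab).eq,
      show a * a * (b * b) = b * b * (a * a) from ((hab.mul_right hab).mul_left (hab.mul_right hab)).eq]
    group)
  have r3 : y0 * t10 * t20 = 1 := Subtype.ext (by
    have h := hpow a ha ha3 (hfix a (by simp)) _ hy
    simp only [y0, t10, t20, Subgroup.coe_mul, hT _ m10, hT _ m20, OneMemClass.coe_one]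
    exact h)
  have r4 : y0 * t11 * t22 = 1 := Subtype.ext (by
    have h := hpow (a * b) hab' e1 (hfix _ (by simp)) _ hy
    simp only [y0, t11, t22, Subgroup.coe_mul, hT _ m11, hT _ m22, OneMemClass.coe_one]
    have hsq : a * b * (a * b) = a * a * (b * b) := by
      rw [mul_assoc a b, ← mul_assoc b a, hba]; simp [mul_assoc]
    rwa [hsq] at h)
  have r5 : y0 * t21 * t12 = 1 := Subtype.ext (by
    have h := hpow (a * a * b) haab e2 (hfix _ (by simp)) _ hy
    simp only [y0, t21, t12, Subgroup.coe_mul, hT _ m21, hT _ m12, OneMemClass.coe_one]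
    have hsq : a * a * b * (a * a * b) = a * (b * b) := by
      calc a * a * b * (a * a * b) = a * a * (b * (a * a)) * b := by group
        _ = a * a * (a * a * b) * b := by rw [← (hab.mul_left hab).eq]
        _ = (a * a * a) * (a * (b * b)) := by group
        _ = _ := by rw [ha33, one_mul]
    rwa [hsq] at h)
  have hs : ∀ u : A, u * u = 1 := fun u => Subtype.ext (hA2 u u.2)
  have hprod : y0 = 1 := by
    calc y0 = y0 * (y0 * y0) * (t10 * t10) * (t20 * t20) * (t11 * t11) * (t12 * t12) *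
          (t21 * t21) * (t22 * t22) := by simp only [hs, mul_one]
      _ = (t10 * t11 * t12) * (t20 * t21 * t22) * (y0 * t10 * t20) * (y0 * t11 * t22) *
          (y0 * t21 * t12) := by ac_rfl
      _ = 1 := by simp only [r1, r2, r3, r4, r5, mul_one]
  exact congrArg Subtype.val hprod

variable {G : Type*} [Group G] [Finite G] {z : G} {P : Subgroup G}

/-- An element of order dividing three that fixes an element modulo `⟨z⟩` fixes it. -/
theorem commute_of_mod (hJ : IsOfJankoFourTypeWith z P) {x y : G}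
    (hx : x ∈ centralizer ({z} : Set G)) (hy : y ∈ centralizer ({z} : Set G)) (hx3 : x ^ 3 = 1)
    (h : x * y * x⁻¹ * y⁻¹ ∈ zpowers z) : x * y = y * x := by
  obtain ⟨i, hi⟩ := mem_zpowers_iff.1 h
  have hk2 : (z ^ i) * (z ^ i) = 1 := by
    rw [← zpow_add, ← two_mul, zpow_mul, zpow_ofNat, ← hJ.1, pow_orderOf_eq_one, one_zpow]
  have hkx : Commute (z ^ i) x :=
    ((show Commute x z from mem_centralizer_singleton_iff.1 hx).symm.zpow_left i)
  have h1 : x * y * x⁻¹ = z ^ i * y := by rw [hi]; group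
  have hs : ∀ w, x * (z ^ i * w) * x⁻¹ = z ^ i * (x * w * x⁻¹) := fun w => by
    simp only [mul_assoc]
    exact hkx.symm.left_comm _
  have h3 : x ^ 3 * y * (x ^ 3)⁻¹ = z ^ i * y := by
    calc x ^ 3 * y * (x ^ 3)⁻¹ = x * (x * (x * y * x⁻¹) * x⁻¹) * x⁻¹ := by
          simp only [pow_succ, pow_zero, one_mul]; group
      _ = x * (x * (z ^ i * y) * x⁻¹) * x⁻¹ := by rw [h1]
      _ = z ^ i * (z ^ i * (x * y * x⁻¹)) := by
          rw [hs, hs]
          congr 1
          conv_lhs => rw [h1]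
          exact hs y
      _ = x * y * x⁻¹ := by rw [← mul_assoc, hk2, one_mul]
      _ = _ := h1
  rw [hx3, one_mul, inv_one, mul_one] at h3
  have : z ^ i = 1 := by
    have := congrArg (· * y⁻¹) h3; simpa using this.symm
  rw [this, one_mul, mul_inv_eq_iff_eq_mul] at h1
  exact h1

/-- A noncentral element of order three of `C_H(P)` is moved along `P` by an element of order
three. -/
theorem exists_conj_mul (hJ : IsOfJankoFourTypeWith z P) {b : G}
    (hb : b ∈ centralizer ({z} : Set G) ⊓ centralizer (P : Set G)) (hb3 : b ^ 3 = 1) (hbP : b ∉ P) :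
    ∃ c ∈ centralizer ({z} : Set G) ⊓ centralizer (P : Set G), c ^ 3 = 1 ∧ c ∉ P ∧
      ∃ a ∈ P, a ≠ 1 ∧ P = zpowers a ∧ c * b * c⁻¹ = a * b := by
  classical
  haveI : Fact (Nat.Prime 3) := ⟨Nat.prime_three⟩
  set C : Subgroup G := centralizer ({z} : Set G) ⊓ centralizer (P : Set G) with hC
  have hPC : P ≤ C := p_le_cent hJ
  have hP3 : Nat.card P = 3 := hJ.2.2.2.2.2.1
  have hb1 : b ≠ 1 := fun e => hbP (e ▸ one_mem P)
  have hbp : IsPGroup 3 ↥(zpowers b) := IsPGroup.of_card (n := 1) (by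
    rw [Nat.card_zpowers, orderOf_eq_prime hb3 hb1, pow_one])
  have hsup : IsPGroup 3 ↥(zpowers b ⊔ P) :=
    hbp.to_sup_of_normal_right' (IsPGroup.of_card (n := 1) (by rw [hP3, pow_one]))
      ((zpowers_le.2 hb).trans (inf_le_right.trans (centralizer_le_normalizer _)))
  have hle : zpowers b ⊔ P ≤ C := sup_le (zpowers_le.2 hb) hPC
  obtain ⟨S, hS⟩ := (hsup.comap_of_injective C.subtype C.subtype_injective).exists_le_sylow
  set R : Subgroup G := (S : Subgroup C).map C.subtype with hR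
  have hRC : R ≤ C := map_subtype_le _
  have hmem : ∀ x (hx : x ∈ zpowers b ⊔ P), x ∈ R := fun x hx =>
    ⟨⟨x, hle hx⟩, hS (show C.subtype ⟨x, hle hx⟩ ∈ zpowers b ⊔ P from hx), rfl⟩
  have hR27 : Nat.card R = 27 := by
    rw [card_map_of_injective C.subtype_injective, S.card_eq_multiplicity, card_cent hJ,
      show 6 * 443520 = 27 * 98560 by norm_num, card_three_part (by norm_num)]
  obtain ⟨hES, hexp, -, -, -⟩ := of_le_cent hJ hRC hR27
  have hcen : center ↥R = P.subgroupOf R := by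
    have hPR : P ≤ R := fun p hp => hmem p (mem_sup_right hp)
    refine (eq_of_le_of_card_ge (fun p hp => mem_center_iff.2 fun u => Subtype.ext
      (ker_central hJ (mem_sup_right (mem_subgroupOf.1 hp)) (hRC u.2)).eq.symm) ?_).symm
    rw [hES.2, Nat.card_congr (subgroupOfEquivOfLe hPR).toEquiv, hP3]
  have hbR : b ∈ R := hmem b (mem_sup_left (mem_zpowers b))
  obtain ⟨⟨c, hcR⟩, hne⟩ : ∃ c : ↥R, c * ⟨b, hbR⟩ ≠ ⟨b, hbR⟩ * c := by
    by_contra hall
    push Not at hall
    have : (⟨b, hbR⟩ : ↥R) ∈ center ↥R := mem_center_iff.2 hall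
    rw [hcen] at this
    exact hbP (mem_subgroupOf.1 this)
  have hd : ⁅(⟨c, hcR⟩ : ↥R), ⟨b, hbR⟩⁆ ∈ P.subgroupOf R := by
    rw [← hcen, ← hES.1.2.2, _root_.commutator_def]
    exact commutator_mem_commutator (mem_top _) (mem_top _)
  have ha : c * b * c⁻¹ * b⁻¹ ∈ P := mem_subgroupOf.1 hd
  have ha1 : c * b * c⁻¹ * b⁻¹ ≠ 1 := fun e => hne (Subtype.ext (by
    rw [mul_inv_eq_one, mul_inv_eq_iff_eq_mul] at e; exact e))
  refine ⟨c, hRC hcR, ?_, fun hcP => hne (Subtype.ext ?_), _, ha, ha1, ?_, by group⟩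
  · have := Monoid.pow_exponent_eq_one (⟨c, hcR⟩ : ↥R)
    rw [hexp] at this
    exact congrArg Subtype.val this
  · exact (ker_central hJ (mem_sup_right hcP) (hRC hbR)).eq
  · refine (eq_of_le_of_card_ge (zpowers_le.2 ha) ?_).symm
    rw [hP3, Nat.card_zpowers, orderOf_eq_prime (p := 3) (by
      rw [← orderOf_dvd_iff_pow_eq_one, ← hP3]; exact P.orderOf_dvd_natCard ha) ha1]

/-- Elements of order three in `C_H(P)` outside `P` have nonabelian centraliser in `E`. -/
theorem z_mem_commutator_fix (hJ : IsOfJankoFourTypeWith z P) {b : G}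
    (hb : b ∈ centralizer ({z} : Set G) ⊓ centralizer (P : Set G)) (hb3 : b ^ 3 = 1) (hbP : b ∉ P) :
    z ∈ ⁅centralizer ({z} : Set G) ⊓ centralizer ({b} : Set G),
      centralizer ({z} : Set G) ⊓ centralizer ({b} : Set G)⁆ := by
  classical
  obtain ⟨c, hc, -, -, a, haP, ha1, hPa, hcb⟩ := exists_conj_mul hJ hb hb3 hbP
  obtain ⟨hz, hE, hE13, -, -, hP3, hfix, -, -⟩ := id hJ
  have hzE := z_mem_core hJ
  set H : Subgroup G := centralizer ({z} : Set G) with hH
  set E : Subgroup G := twoCoreOfCentralizer z with hEdef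
  have hEH : E ≤ H := map_subtype_le _
  have hconj : ∀ h ∈ H, ∀ x ∈ E, h * x * h⁻¹ ∈ E := by
    rintro h hh _ ⟨x, hx, rfl⟩
    exact ⟨(⟨h, hh⟩ : H) * x * (⟨h, hh⟩ : H)⁻¹,
      (inferInstance : (pCore 2 ↥H).Normal).conj_mem x hx _, rfl⟩
  have hzH : z ∈ H := mem_centralizer_singleton_iff.2 rfl
  have hzE' : zpowers z ≤ E := zpowers_le.2 hzE
  have hcenE : center ↥E = (zpowers z).subgroupOf E := by
    refine (eq_of_le_of_card_ge (fun p hp => mem_center_iff.2 fun u => Subtype.ext ?_) ?_).symm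
    · obtain ⟨i, hi⟩ := mem_zpowers_iff.1 (mem_subgroupOf.1 hp)
      show (u : G) * p = p * u
      rw [← hi]
      exact ((show Commute (u : G) z from
        mem_centralizer_singleton_iff.1 (hEH u.2)).zpow_right i).eq
    · rw [hE.2, Nat.card_congr (subgroupOfEquivOfLe hzE').toEquiv, Nat.card_zpowers, hz]
  have hcomm : ∀ u ∈ E, ∀ v ∈ E, u * v * u⁻¹ * v⁻¹ ∈ zpowers z := by
    intro u hu v hv
    have : ⁅(⟨u, hu⟩ : ↥E), ⟨v, hv⟩⁆ ∈ (zpowers z).subgroupOf E := by
      rw [← hcenE, ← hE.1.2.2, _root_.commutator_def]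
      exact commutator_mem_commutator (mem_top _) (mem_top _)
    exact mem_subgroupOf.1 this
  have hsq : ∀ u ∈ E, u * u ∈ zpowers z := by
    intro u hu
    have : (⟨u, hu⟩ : ↥E) ^ 2 ∈ (zpowers z).subgroupOf E := by
      rw [← hcenE, ← hE.1.2.1]
      exact H6.pow_prime_mem_frattini hE.1.1 _
    rw [pow_two] at this
    exact mem_subgroupOf.1 this
  haveI : ((zpowers z).subgroupOf H).Normal := ⟨fun n hn g => by
    rw [mem_subgroupOf] at hn ⊢
    obtain ⟨i, hi⟩ := mem_zpowers_iff.1 hn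
    rw [Subgroup.coe_mul, Subgroup.coe_mul, Subgroup.coe_inv, ← hi,
      ((show Commute (g : G) z from mem_centralizer_singleton_iff.1 g.2).zpow_right i).eq,
      mul_inv_cancel_right]
    exact zpow_mem (mem_zpowers z) i⟩
  let q := QuotientGroup.mk' ((zpowers z).subgroupOf H)
  have hq : ∀ u : H, q u = 1 ↔ (u : G) ∈ zpowers z := fun u => by
    rw [QuotientGroup.mk'_apply, QuotientGroup.eq_one_iff, mem_subgroupOf]
  set A : Subgroup (H ⧸ (zpowers z).subgroupOf H) := (E.subgroupOf H).map q with hA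
  have hPH : P ≤ H := (p_le_cent hJ).trans inf_le_left
  have hbH : b ∈ H := hb.1
  have ha3 : a ^ 3 = 1 := by
    rw [← orderOf_dvd_iff_pow_eq_one, ← hP3]; exact P.orderOf_dvd_natCard haP
  have hab : Commute a b := ker_central hJ (mem_sup_right haP) hb
  have hnormA : ∀ x : H, ∀ u ∈ A, q x * u * (q x)⁻¹ ∈ A := by
    rintro x _ ⟨u, hu, rfl⟩
    exact ⟨x * u * x⁻¹, mem_subgroupOf.2 (hconj x x.2 u (mem_subgroupOf.1 hu)), by simp⟩
  -- some element of `E` outside `⟨z⟩` commutes with `b`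
  obtain ⟨x, hxE, hxb, hxz⟩ : ∃ x ∈ E, x * b = b * x ∧ x ∉ zpowers z := by
    by_contra hnone
    push Not at hnone
    have hfixb : ∀ x ∈ E, b * x = x * b → x ∈ zpowers z := fun x hx h => hnone x hx h.symm
    have hfixa : ∀ x ∈ E, a * x = x * a → x ∈ zpowers z := by
      intro x hx h
      rw [← hfix]
      refine ⟨hx, mem_centralizer_iff.2 fun p hp => ?_⟩
      obtain ⟨i, rfl⟩ := mem_zpowers_iff.1 (hPa ▸ hp)
      exact ((show Commute a x from h).zpow_left i).eq
    have htransfer : ∀ d ∈ centralizer ({z} : Set G) ⊓ centralizer (P : Set G), ∀ x ∈ E,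
        d * b * d⁻¹ * x = x * (d * b * d⁻¹) → x ∈ zpowers z := by
      intro d hd x hx h
      have hx' : d⁻¹ * x * d ∈ E := by simpa using hconj _ (H.inv_mem hd.1) x hx
      have h' : b * (d⁻¹ * x * d) = d⁻¹ * x * d * b := by
        calc b * (d⁻¹ * x * d) = d⁻¹ * (d * b * d⁻¹ * x) * d := by group
          _ = d⁻¹ * (x * (d * b * d⁻¹)) * d := by rw [h]
          _ = d⁻¹ * x * d * b := by group
      obtain ⟨i, hi⟩ := mem_zpowers_iff.1 (hfixb _ hx' h')
      have : x = z ^ i := by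
        have e : x = d * (z ^ i) * d⁻¹ := by rw [hi]; group
        rw [e, ((show Commute d z from mem_centralizer_singleton_iff.1 hd.1).zpow_right i).eq,
          mul_inv_cancel_right]
      rw [this]; exact zpow_mem (mem_zpowers z) i
    have hcab : c * c * b * (c * c)⁻¹ = a * a * b := by
      calc c * c * b * (c * c)⁻¹ = c * (c * b * c⁻¹) * c⁻¹ := by group
        _ = c * (a * b) * c⁻¹ := by rw [hcb]
        _ = c * a * c⁻¹ * (c * b * c⁻¹) := by group
        _ = a * a * b := by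
          rw [← (ker_central hJ (mem_sup_right haP) hc).eq, mul_inv_cancel_right, hcb, mul_assoc]
    have haH := hPH haP
    have hA1 := eq_one_of_fpf A (a := q ⟨a, haH⟩) (b := q ⟨b, hbH⟩) ?_ ?_
      (hnormA _) (hnormA _) ?_ ?_ ?_ ?_
    · have hle : E ≤ zpowers z := fun u hu =>
        (hq ⟨u, hEH hu⟩).1 (hA1 _ ⟨⟨u, hEH hu⟩, mem_subgroupOf.2 hu, rfl⟩)
      have := card_le_of_le hle
      rw [hE13, Nat.card_zpowers, hz] at this
      norm_num at this
    · rintro _ ⟨u, hu, rfl⟩ _ ⟨v, hv, rfl⟩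
      rw [← mul_inv_eq_one, mul_inv_rev, ← map_mul, ← map_inv, ← map_inv, ← map_mul, ← map_mul, hq]
      have := hcomm u (mem_subgroupOf.1 hu) v (mem_subgroupOf.1 hv)
      simpa [mul_assoc] using this
    · rintro _ ⟨u, hu, rfl⟩
      rw [← map_mul, hq]
      exact hsq u (mem_subgroupOf.1 hu)
    · exact (show Commute (⟨a, haH⟩ : H) ⟨b, hbH⟩ from Subtype.ext hab.eq).map q
    · rw [← map_pow]; exact (hq _).2 (by simp [ha3])
    · rw [← map_pow]; exact (hq _).2 (by simp [hb3])
    · rintro w hw _ ⟨u, hu, rfl⟩ h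
      have hu' := mem_subgroupOf.1 hu
      have key : ∀ v : H, (v : G) ^ 3 = 1 →
          (∀ x ∈ E, (v : G) * x = x * v → x ∈ zpowers z) →
          q v * q u * (q v)⁻¹ = q u → q u = 1 := by
        intro v hv3 hvf h
        refine (hq u).2 (hvf u hu' (commute_of_mod hJ v.2 u.2 hv3 ?_))
        rw [← map_mul, ← map_inv, ← map_mul, ← mul_inv_eq_one, ← map_inv, ← map_mul, hq] at h
        exact h
      simp only [Set.mem_insert_iff, Set.mem_singleton_iff] at hw
      rcases hw with rfl | rfl | rfl | rfl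
      · exact key _ ha3 hfixa h
      · exact key _ hb3 hfixb h
      · rw [← map_mul] at h
        refine key _ ?_ (fun x hx hh => htransfer c hc x hx ?_) h
        · show (a * b) ^ 3 = 1
          rw [hab.mul_pow, ha3, hb3, one_mul]
        · rw [hcb]; exact hh
      · rw [← map_mul, ← map_mul] at h
        refine key _ ?_ (fun x hx hh => htransfer (c * c) (mul_mem hc hc) x hx ?_) h
        · show (a * a * b) ^ 3 = 1
          rw [(hab.mul_left hab).mul_pow, (Commute.refl a).mul_pow, ha3, hb3, one_mul, one_mul]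
        · rw [hcab]; exact hh
  -- a partner of `x`
  have hxH := hEH hxE
  obtain ⟨⟨y, hyE⟩, hy⟩ : ∃ y : ↥E, y * ⟨x, hxE⟩ ≠ ⟨x, hxE⟩ * y := by
    by_contra hall
    push Not at hall
    have : (⟨x, hxE⟩ : ↥E) ∈ center ↥E := mem_center_iff.2 hall
    rw [hcenE] at this
    exact hxz (mem_subgroupOf.1 this)
  have hxy : x * y * x⁻¹ * y⁻¹ = z := by
    obtain ⟨i, hi⟩ := mem_zpowers_iff.1 (hcomm x hxE y hyE)
    have hi' : z ^ i = z ^ (i % 2) := by
      conv_lhs => rw [← Int.emod_add_mul_ediv i 2]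
      rw [zpow_add, zpow_mul, show (2 : ℤ) = ((2 : ℕ) : ℤ) from rfl, zpow_natCast, ← hz,
        pow_orderOf_eq_one, one_zpow, mul_one]
    rcases Int.emod_two_eq_zero_or_one i with h | h
    · exfalso
      rw [hi', h, zpow_zero, eq_comm, mul_inv_eq_one, mul_inv_eq_iff_eq_mul] at hi
      exact hy (Subtype.ext hi.symm)
    · rw [← hi, hi', h, zpow_one]
  have hy1 : b * y * b⁻¹ ∈ E := hconj b hbH y hyE
  have hy2 : b * b * y * (b * b)⁻¹ ∈ E := hconj _ (mul_mem hbH hbH) y hyE
  set u := y * (b * y * b⁻¹) * (b * b * y * (b * b)⁻¹) with hu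
  have huE : u ∈ E := mul_mem (mul_mem hyE hy1) hy2
  have hbz : Commute b z := mem_centralizer_singleton_iff.1 hbH
  have hzx : Commute x z := mem_centralizer_singleton_iff.1 hxH
  have hstep : ∀ v : G, x * v * x⁻¹ = z * v →
      x * (b * v * b⁻¹) * x⁻¹ = z * (b * v * b⁻¹) := by
    intro v hv
    have hbx : b⁻¹ * x = x * b⁻¹ := ((show Commute b x from hxb.symm).inv_left).eq
    calc x * (b * v * b⁻¹) * x⁻¹ = (x * b) * v * (b⁻¹ * x⁻¹) := by group
      _ = (b * x) * v * (x⁻¹ * b⁻¹) := by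
        rw [hxb, ((show Commute b x from hxb.symm).inv_left.inv_right).eq]
      _ = b * (x * v * x⁻¹) * b⁻¹ := by group
      _ = z * (b * v * b⁻¹) := by rw [hv, ← mul_assoc b z, hbz.eq]; group
  have hxy' : x * y * x⁻¹ = z * y := by rw [← hxy]; group
  have h1 := hstep y hxy'
  have h2 : x * (b * b * y * (b * b)⁻¹) * x⁻¹ = z * (b * b * y * (b * b)⁻¹) := by
    have := hstep _ h1
    simpa [mul_assoc] using this
  have hzc : ∀ v ∈ E, Commute z v := fun v hv =>
    (show Commute v z from mem_centralizer_singleton_iff.1 (hEH hv)).symm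
  have hxu : x * u * x⁻¹ * u⁻¹ = z := by
    have hz2 : z * z = 1 := by rw [← pow_two, ← hz, pow_orderOf_eq_one]
    have : x * u * x⁻¹ = z * u := by
      calc x * u * x⁻¹ = (x * y * x⁻¹) * (x * (b * y * b⁻¹) * x⁻¹) *
            (x * (b * b * y * (b * b)⁻¹) * x⁻¹) := by rw [hu]; group
        _ = z * y * (z * (b * y * b⁻¹)) * (z * (b * b * y * (b * b)⁻¹)) := by rw [hxy', h1, h2]
        _ = z * (z * (z * u)) := by
          rw [hu, mul_assoc z y, ← mul_assoc y z, ← (hzc y hyE).eq]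
          rw [← mul_assoc (z * (z * y * (b * y * b⁻¹))) z]
          rw [← ((hzc _ hzE).mul_right (((hzc _ hzE).mul_right (hzc y hyE)).mul_right (hzc _ hy1))).eq]
          group
        _ = z * u := by rw [← mul_assoc z z, hz2, one_mul]
    rw [this, mul_inv_cancel_right]
  have hub : b * u = u * b := by
    refine commute_of_mod hJ hbH (hEH huE) hb3 ?_
    have h33 : b * b * b = 1 := by rw [← hb3]; simp [pow_succ, mul_assoc]
    have hbu : b * u * b⁻¹ * u⁻¹ = (b * y * b⁻¹ * (b * b * y * (b * b)⁻¹)) * y *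
        (b * y * b⁻¹ * (b * b * y * (b * b)⁻¹))⁻¹ * y⁻¹ := by
      have : b * u * b⁻¹ = b * y * b⁻¹ * (b * b * y * (b * b)⁻¹) *
          ((b * b * b) * y * (b * b * b)⁻¹) := by rw [hu]; group
      rw [this, h33, hu]; group
    rw [hbu]
    exact hcomm _ (mul_mem hy1 hy2) _ hyE
  rw [← hxu]
  exact commutator_mem_commutator
    (⟨hxH, mem_centralizer_singleton_iff.2 hxb⟩ : x ∈ H ⊓ centralizer ({b} : Set G))
    (⟨hEH huE, mem_centralizer_singleton_iff.2 hub.symm⟩ : u ∈ H ⊓ centralizer ({b} : Set G))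

/-- Every element of order dividing three of `H` is `H`-conjugate into `C_H(P)`. -/
theorem exists_conj_mem_cent (hJ : IsOfJankoFourTypeWith z P) {x : G}
    (hx : x ∈ centralizer ({z} : Set G)) (hx3 : x ^ 3 = 1) :
    ∃ h ∈ centralizer ({z} : Set G),
      h * x * h⁻¹ ∈ centralizer ({z} : Set G) ⊓ centralizer (P : Set G) := by
  classical
  haveI : Fact (Nat.Prime 3) := ⟨Nat.prime_three⟩
  set H : Subgroup G := centralizer ({z} : Set G) with hH
  set C : Subgroup G := H ⊓ centralizer (P : Set G) with hC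
  have hfacH : 3 ^ (Nat.card H).factorization 3 = 27 := by
    rw [(exists_hom_norm hJ).1, card_aut22,
      show 3 * 2 ^ 13 * 887040 = 27 * (2 ^ 13 * 98560) by norm_num, card_three_part (by norm_num)]
  obtain ⟨S⟩ : Nonempty (Sylow 3 C) := inferInstance
  set R : Subgroup G := (S : Subgroup C).map C.subtype with hR
  have hR27 : Nat.card R = 27 := by
    rw [card_map_of_injective C.subtype_injective, S.card_eq_multiplicity, card_cent hJ,
      show 6 * 443520 = 27 * 98560 by norm_num, card_three_part (by norm_num)]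
  have hRH : R ≤ H := (map_subtype_le _).trans inf_le_left
  let T : Sylow 3 H := Sylow.ofCard (R.subgroupOf H) (by
    rw [Nat.card_congr (subgroupOfEquivOfLe hRH).toEquiv, hR27, hfacH])
  have hp : IsPGroup 3 ↥(zpowers (⟨x, hx⟩ : H)) := by
    obtain ⟨j, -, hj⟩ := (Nat.dvd_prime_pow Nat.prime_three).1
      (show orderOf (⟨x, hx⟩ : H) ∣ 3 ^ 1 by
        rw [pow_one, orderOf_dvd_iff_pow_eq_one]; exact Subtype.ext hx3)
    exact IsPGroup.of_card (n := j) (by rw [Nat.card_zpowers, hj])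
  obtain ⟨Q, hQ⟩ := hp.exists_le_sylow
  obtain ⟨h, hh⟩ := MulAction.exists_smul_eq H Q T
  refine ⟨h, h.2, ?_⟩
  have h1 : h * ⟨x, hx⟩ * h⁻¹ ∈ ((h • Q : Sylow 3 H) : Subgroup H) := by
    rw [Sylow.coe_subgroup_smul]
    exact ⟨⟨x, hx⟩, hQ (mem_zpowers _), by simp⟩
  rw [hh] at h1
  exact map_subtype_le (H := C) (S : Subgroup C) (mem_subgroupOf.1 h1)

end H42.J4
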