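import Cfsg.Agent.H25.M22Classes
import Cfsg.Agent.H62.Basic
import Cfsg.Agent.H95.M22Simple
import Cfsg.Agent.H97.OutM22

/-!
Facts about the concrete M22: simplicity, the centralisers of elements of order three and of a
Sylow 3-subgroup, the normaliser of a Sylow 3-subgroup has order 72, and the index of the inner
automorphisms.
-/

set_option autoImplicit false

open Cfsg Subgroup
open scoped commutatorElement

namespace H42.J4

open H25.M22 (G22)

/-- `M22` as the two point stabiliser inside `M24`. -/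
def m22Equiv : H95.m22Grp ≃* G22 where
  toFun g := ⟨g.1.1, by
    obtain ⟨h1, h2⟩ := Subgroup.mem_inf.1 g.2
    exact ⟨⟨g.1.2, h1⟩, h2⟩⟩
  invFun g := ⟨⟨g.1, g.2.1.1⟩, Subgroup.mem_inf.2 ⟨g.2.1.2, g.2.2⟩⟩
  left_inv g := rfl
  right_inv g := rfl
  map_mul' g h := rfl

theorem simple22 : IsSimpleGroup G22 := by
  haveI := H95.m22_simple
  exact m22Equiv.symm.isSimpleGroup

theorem not_comm22 : ¬ IsMulCommutative G22 := by
  haveI := simple22
  exact H62.not_comm_of_not_prime (by rw [H25.M22.card22]; norm_num)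

theorem perfect22 : commutator G22 = ⊤ := by
  haveI := simple22
  exact IsSimpleGroup.eq_bot_or_eq_top_of_normal (commutator G22) inferInstance |>.resolve_left
    fun h => not_comm22 ⟨⟨fun a b => by
      have hm : ⁅a, b⁆ ∈ commutator G22 := by
        rw [_root_.commutator_def]
        exact commutator_mem_commutator (mem_top a) (mem_top b)
      rw [h, mem_bot] at hm
      exact commutatorElement_eq_one_iff_mul_comm.mp hm⟩⟩

theorem center22 : Subgroup.center G22 = ⊥ := by
  haveI := simple22
  exact H62.center_eq_bot_of_simple not_comm22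

theorem fac_three : (Nat.card G22).factorization 3 = 2 := by
  rw [H25.M22.card22, show (443520 : ℕ) = 3 ^ 2 * 49280 by norm_num,
    Nat.factorization_mul (by norm_num) (by norm_num), Nat.prime_three.factorization_pow]
  simp [Nat.factorization_eq_zero_of_not_dvd (show ¬ 3 ∣ 49280 by norm_num)]

theorem isConj_three {a b : G22} (ha : orderOf a = 3) (hb : orderOf b = 3) : IsConj a b := by
  obtain ⟨y, hy, -⟩ := H25.M22.exists_y
  exact (H25.M22.three_conj hy ha).symm.trans (H25.M22.three_conj hy hb)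

theorem card_sylow_three (P : Sylow 3 G22) : Nat.card (P : Subgroup G22) = 9 := by
  haveI : Fact (Nat.Prime 3) := ⟨Nat.prime_three⟩
  rw [P.card_eq_multiplicity, fac_three]; rfl

/-- An involution centraliser has order at most `384` and divisible by `128`. -/
theorem card_cent_invol {t : G22} (ht : orderOf t = 2) :
    Nat.card (centralizer ({t} : Set G22)) ≤ 384 ∧
      128 ∣ Nat.card (centralizer ({t} : Set G22)) := by
  haveI : Fact (Nat.Prime 2) := ⟨Nat.prime_two⟩
  have ht1 : t ≠ 1 := fun e => by rw [e, orderOf_one] at ht; omega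
  have ht2 : t * t = 1 := by rw [← pow_two, ← ht]; exact pow_orderOf_eq_one t
  have h := H25.M22.reps_mem
  simp only [Bool.and_eq_true] at h
  obtain ⟨z, hz⟩ := H87.exists_of_mem22 h.1.1.1
  have hconj : ∀ w : G22, w * w = 1 → w ≠ 1 → IsConj z w := fun w h2 h1 => H25.M22.isConj_inv hz h2 h1
  refine ⟨?_, ?_⟩
  · rw [H25.M22.isConj_card_centralizer (hconj t ht2 ht1)]
    have hle := H25.M22.centList_card (r := H25.M22.zN) hz
    have key : ∀ n : ℕ, Nat.ble n 384 = true → n ≤ 384 := fun n h => Nat.le_of_ble_eq_true h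
    exact le_trans hle (key (H25.M22.centList H25.M22.zN).length H25.M22.z_cent)
  · obtain ⟨S⟩ : Nonempty (Sylow 2 G22) := inferInstance
    have hScard : Nat.card (S : Subgroup G22) = 128 := by
      rw [S.card_eq_multiplicity, H25.M22.fac_two]; rfl
    haveI : Nontrivial (S : Subgroup G22) := by
      rw [← Finite.one_lt_card_iff_nontrivial, hScard]; norm_num
    haveI := S.2.center_nontrivial
    obtain ⟨c, hc⟩ := exists_prime_orderOf_dvd_card' (G := Subgroup.center (S : Subgroup G22)) 2 (by
      obtain ⟨k, hk⟩ := IsPGroup.iff_card.mp (S.2.to_subgroup (Subgroup.center (S : Subgroup G22)))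
      have h1 : 1 < Nat.card (Subgroup.center (S : Subgroup G22)) :=
        Finite.one_lt_card_iff_nontrivial.2 inferInstance
      rcases k with _ | k
      · rw [hk, pow_zero] at h1; omega
      · exact hk ▸ dvd_pow_self 2 (Nat.succ_ne_zero k))
    set w : G22 := ((c : (S : Subgroup G22)) : G22) with hw
    have hwo : orderOf w = 2 := by rw [hw, Subgroup.orderOf_coe, Subgroup.orderOf_coe, hc]
    have hw1 : w ≠ 1 := fun e => by rw [e, orderOf_one] at hwo; omega
    have hw2 : w * w = 1 := by rw [← pow_two, ← hwo]; exact pow_orderOf_eq_one w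
    have hle : (S : Subgroup G22) ≤ centralizer ({w} : Set G22) := fun s hs =>
      mem_centralizer_singleton_iff.2 (congrArg Subtype.val (mem_center_iff.1 c.2 ⟨s, hs⟩))
    rw [H25.M22.isConj_card_centralizer (hconj t ht2 ht1),
      ← H25.M22.isConj_card_centralizer (hconj w hw2 hw1), ← hScard]
    exact card_dvd_of_le hle

theorem sylow_three_comm (P : Sylow 3 G22) : ∀ a ∈ (P : Subgroup G22), ∀ b ∈ (P : Subgroup G22),
    a * b = b * a := fun a ha b hb => by
  haveI : Fact (Nat.Prime 3) := ⟨Nat.prime_three⟩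
  exact congrArg Subtype.val (IsPGroup.commutative_of_card_eq_prime_sq (p := 3)
    (by rw [card_sylow_three P]; norm_num) (⟨a, ha⟩ : (P : Subgroup G22)) ⟨b, hb⟩)

/-- The centraliser of an element of order three has order `36`. -/
theorem card_cent_three {a : G22} (ha : orderOf a = 3) :
    Nat.card (centralizer ({a} : Set G22)) = 36 := by
  haveI : Fact (Nat.Prime 3) := ⟨Nat.prime_three⟩
  obtain ⟨y, hy, hy3⟩ := H25.M22.exists_y
  rw [H25.M22.isConj_card_centralizer (isConj_three hy3 ha)]
  obtain ⟨h36, h4⟩ := H25.M22.cent_y hy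
  have hp : IsPGroup 3 (zpowers y) := IsPGroup.of_card (n := 1) (by rw [Nat.card_zpowers, hy3, pow_one])
  obtain ⟨Q, hQ⟩ := hp.exists_le_sylow
  have h9 : 9 ∣ Nat.card (centralizer ({y} : Set G22)) := by
    rw [← card_sylow_three Q]
    exact card_dvd_of_le fun s hs => mem_centralizer_singleton_iff.2
      (sylow_three_comm Q s hs y (hQ (mem_zpowers y)))
  have hdvd : 36 ∣ Nat.card (centralizer ({y} : Set G22)) :=
    Nat.Coprime.mul_dvd_of_dvd_of_dvd (by norm_num : Nat.Coprime 4 9) h4 h9
  exact le_antisymm h36 (Nat.le_of_dvd Nat.card_pos hdvd)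

/-- A Sylow 3-subgroup is self-centralising. -/
theorem centralizer_sylow_three (P : Sylow 3 G22) :
    centralizer ((P : Subgroup G22) : Set G22) = (P : Subgroup G22) := by
  haveI : Fact (Nat.Prime 3) := ⟨Nat.prime_three⟩
  have hle : (P : Subgroup G22) ≤ centralizer ((P : Subgroup G22) : Set G22) := fun s hs =>
    mem_centralizer_iff.2 fun b hb => sylow_three_comm P b hb s hs
  refine (eq_of_le_of_card_ge hle ?_).symm
  have h9 := card_sylow_three P
  obtain ⟨a, ha⟩ := exists_prime_orderOf_dvd_card' (G := (P : Subgroup G22)) 3 (by rw [h9]; norm_num)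
  have ha' : orderOf (a : G22) = 3 := by rw [Subgroup.orderOf_coe, ha]
  have hd : Nat.card (centralizer ((P : Subgroup G22) : Set G22)) ∣ 36 := by
    rw [← card_cent_three ha']
    exact card_dvd_of_le fun s hs => mem_centralizer_singleton_iff.2
      (mem_centralizer_iff.1 hs a a.2).symm
  have h9d : 9 ∣ Nat.card (centralizer ((P : Subgroup G22) : Set G22)) := h9 ▸ card_dvd_of_le hle
  by_contra hne
  rw [h9, not_le] at hne
  have h2 : 2 ∣ Nat.card (centralizer ((P : Subgroup G22) : Set G22)) := by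
    obtain ⟨k, hk⟩ := h9d
    have hk4 : k ∣ 4 := Nat.dvd_of_mul_dvd_mul_left (by norm_num : 0 < 9) (hk ▸ hd)
    have hk1 : 1 < k := by omega
    rw [hk]
    refine Dvd.dvd.mul_left ?_ 9
    have : k ≤ 4 := Nat.le_of_dvd (by norm_num) hk4
    interval_cases k <;> omega
  haveI : Fact (Nat.Prime 2) := ⟨Nat.prime_two⟩
  obtain ⟨t, ht⟩ := exists_prime_orderOf_dvd_card' (G := centralizer ((P : Subgroup G22) : Set G22)) 2 h2
  have ht' : orderOf (t : G22) = 2 := by rw [Subgroup.orderOf_coe, ht]
  obtain ⟨hup, h128⟩ := card_cent_invol ht'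
  have h9t : 9 ∣ Nat.card (centralizer ({(t : G22)} : Set G22)) := h9 ▸ card_dvd_of_le fun s hs =>
    mem_centralizer_singleton_iff.2 (mem_centralizer_iff.1 t.2 s hs)
  have h1152 := Nat.Coprime.mul_dvd_of_dvd_of_dvd (by norm_num : Nat.Coprime 128 9) h128 h9t
  have := Nat.le_of_dvd Nat.card_pos h1152
  omega

/-- A Sylow 3-subgroup has exponent three. -/
theorem pow_three_sylow (P : Sylow 3 G22) {a : G22} (ha : a ∈ (P : Subgroup G22)) : a ^ 3 = 1 := by
  haveI : Fact (Nat.Prime 3) := ⟨Nat.prime_three⟩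
  obtain ⟨y, hy, hy3⟩ := H25.M22.exists_y
  obtain ⟨Q, hQ, hQc⟩ := H25.M22.exists_three_subgroup
  let S : Sylow 3 G22 := Sylow.ofCard Q (by rw [hQ, fac_three]; norm_num)
  obtain ⟨c, hc⟩ := MulAction.exists_smul_eq G22 P S
  have hmem : c * a * c⁻¹ ∈ Q := by
    have h1 : c * a * c⁻¹ ∈ ((c • P : Sylow 3 G22) : Subgroup G22) := by
      rw [Sylow.coe_subgroup_smul]
      exact ⟨a, ha, by simp⟩
    rw [hc] at h1
    exact h1
  by_cases h1 : c * a * c⁻¹ = 1
  · rw [conj_eq_one_iff.1 h1, one_pow]
  · obtain ⟨d, hd⟩ := isConj_iff.1 (hQc hy _ hmem h1)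
    have h3 : (c * a * c⁻¹) ^ 3 = 1 := by
      rw [← hd, conj_pow, ← hy3, pow_orderOf_eq_one, mul_one, mul_inv_cancel]
    rw [conj_pow, conj_eq_one_iff] at h3
    exact h3

theorem orderOf_of_mem_sylow_three (P : Sylow 3 G22) {a : G22} (ha : a ∈ (P : Subgroup G22))
    (h1 : a ≠ 1) : orderOf a = 3 := by
  haveI : Fact (Nat.Prime 3) := ⟨Nat.prime_three⟩
  exact orderOf_eq_prime (pow_three_sylow P ha) h1

/-- An element of order three of a Sylow 3-subgroup `P` is centralised in `N(P)` by `P` only. -/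
theorem card_normalizer_inf_cent {P : Sylow 3 G22} {a : G22} (haP : a ∈ (P : Subgroup G22))
    (ha : a ≠ 1) :
    Nat.card ↥(normalizer ((P : Subgroup G22) : Set G22) ⊓ centralizer ({a} : Set G22)) = 9 := by
  classical
  haveI : Fact (Nat.Prime 3) := ⟨Nat.prime_three⟩
  haveI : Fact (Nat.Prime 2) := ⟨Nat.prime_two⟩
  have ha3 := orderOf_of_mem_sylow_three P haP ha
  set C : Subgroup G22 := centralizer ({a} : Set G22) with hC
  have hC36 : Nat.card C = 36 := card_cent_three ha3
  have hP9 := card_sylow_three P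
  have hPC : (P : Subgroup G22) ≤ C := fun s hs =>
    mem_centralizer_singleton_iff.2 (sylow_three_comm P s hs a haP)
  let P' : Sylow 3 C := P.subtype hPC
  set M : Subgroup G22 := normalizer ((P : Subgroup G22) : Set G22) ⊓ C with hM
  have hPM : (P : Subgroup G22) ≤ M := le_inf le_normalizer hPC
  have hM9 : 9 ∣ Nat.card M := hP9 ▸ card_dvd_of_le hPM
  have hM36 : Nat.card M ∣ 36 := hC36 ▸ card_dvd_of_le inf_le_right
  have hMn : normalizer ((P' : Subgroup C) : Set C) = M.subgroupOf C := by
    ext x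
    simp only [P', Sylow.coe_subtype, mem_subgroupOf, hM, mem_inf, x.2, and_true]
    rw [mem_normalizer_iff, mem_normalizer_iff]
    constructor
    · intro h g
      refine ⟨fun hg => ?_, fun hg => ?_⟩
      · have := (h ⟨g, hPC hg⟩).1 (by simpa [mem_subgroupOf] using hg)
        simpa [mem_subgroupOf] using this
      · have hgC : g ∈ C := by
          have := C.mul_mem (C.mul_mem (C.inv_mem x.2) (hPC hg)) x.2
          simpa [mul_assoc] using this
        exact by simpa [mem_subgroupOf] using
          (h ⟨g, hgC⟩).2 (by simpa [mem_subgroupOf] using hg)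
    · intro h g
      simpa [mem_subgroupOf] using h g.1
  have hidx : Nat.card M * Nat.card (Sylow 3 C) = 36 := by
    rw [Sylow.card_eq_index_normalizer P', show normalizer (P' : Set C) = M.subgroupOf C from hMn,
      ← Nat.card_congr (subgroupOfEquivOfLe (inf_le_right : M ≤ C)).toEquiv,
      card_mul_index, hC36]
  have hmod := card_sylow_modEq_one 3 C
  -- either `9`, or `C` normalises `P`
  rcases eq_or_ne (Nat.card M) 9 with h | h
  · exact h
  exfalso
  have hMC : Nat.card M = 36 := by
    obtain ⟨k, hk⟩ := hM9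
    have hk4 : k ∣ 4 := Nat.dvd_of_mul_dvd_mul_left (by norm_num : 0 < 9) (hk ▸ hM36)
    have hk1 : k ≤ 4 := Nat.le_of_dvd (by norm_num) hk4
    rw [hk] at hidx h
    simp only [Nat.ModEq] at hmod
    interval_cases k <;> omega
  have hCN : C ≤ normalizer ((P : Subgroup G22) : Set G22) := by
    have : M = C := eq_of_le_of_card_ge inf_le_right (by rw [hMC, hC36])
    rw [← this]; exact inf_le_left
  -- a Sylow 2-subgroup of `C`
  obtain ⟨S⟩ : Nonempty (Sylow 2 C) := inferInstance
  have hS : Nat.card (S : Subgroup C) = 4 := by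
    rw [S.card_eq_multiplicity, hC36, show (36 : ℕ) = 2 ^ 2 * 9 by norm_num,
      Nat.factorization_mul (by norm_num) (by norm_num), Nat.prime_two.factorization_pow]
    simp [Nat.factorization_eq_zero_of_not_dvd (show ¬ 2 ∣ 9 by norm_num)]
  obtain ⟨b, hbP, hb⟩ : ∃ b ∈ (P : Subgroup G22), b ∉ zpowers a := by
    by_contra hall
    push Not at hall
    have := card_le_of_le (show (P : Subgroup G22) ≤ zpowers a from hall)
    rw [hP9, Nat.card_zpowers, ha3] at this
    omega
  have hb3 := pow_three_sylow P hbP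
  have hab : Commute a b := sylow_three_comm P a haP b hbP
  -- every element of `P` is `a ^ i * b ^ j`
  have hgen : ∀ v ∈ (P : Subgroup G22), ∃ i j : ℕ, j < 3 ∧ v = a ^ i * b ^ j := by
    let f : Fin 3 × Fin 3 → (P : Subgroup G22) := fun q =>
      ⟨a ^ (q.1 : ℕ) * b ^ (q.2 : ℕ), mul_mem (pow_mem haP _) (pow_mem hbP _)⟩
    have key : ∀ i j k l : ℕ, j < l → l < 3 → a ^ i * b ^ j ≠ a ^ k * b ^ l := by
      intro i j k l hjl hl e
      have hbl : b ^ (l - j) ∈ zpowers a := by
        have : b ^ (l - j) = (a ^ k)⁻¹ * a ^ i := by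
          have e' : a ^ i = a ^ k * b ^ (l - j) := by
            apply mul_right_cancel (b := b ^ j)
            rw [mul_assoc, ← pow_add, Nat.sub_add_cancel hjl.le, e]
          rw [e', inv_mul_cancel_left]
        rw [this]
        exact mul_mem (inv_mem (pow_mem (mem_zpowers a) _)) (pow_mem (mem_zpowers a) _)
      obtain h' | h' : l - j = 1 ∨ l - j = 2 := by omega
      · rw [h', pow_one] at hbl; exact hb hbl
      · rw [h'] at hbl
        apply hb
        have : (b ^ 2) ^ 2 = b := by rw [← pow_mul, pow_succ, hb3, one_mul]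
        rw [← this]; exact pow_mem hbl 2
    have hinj : Function.Injective f := by
      rintro ⟨i, j⟩ ⟨k, l⟩ e
      have e' : a ^ (i : ℕ) * b ^ (j : ℕ) = a ^ (k : ℕ) * b ^ (l : ℕ) := congrArg Subtype.val e
      rcases lt_trichotomy (j : ℕ) l with h1 | h1 | h1
      · exact absurd e' (key _ _ _ _ h1 l.isLt)
      · rw [h1, mul_left_inj] at e'
        have := pow_injOn_Iio_orderOf (x := a) (by rw [Set.mem_Iio, ha3]; exact i.isLt)
          (by rw [Set.mem_Iio, ha3]; exact k.isLt) e'
        exact Prod.ext (Fin.ext this) (Fin.ext h1)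
      · exact absurd e'.symm (key _ _ _ _ h1 j.isLt)
    have hbij := hinj.bijective_of_nat_card_le (by rw [hP9]; simp)
    intro v hv
    obtain ⟨⟨i, j⟩, hij⟩ := hbij.2 ⟨v, hv⟩
    exact ⟨i, j, j.isLt, (congrArg Subtype.val hij).symm⟩
  -- an element of `S` fixing `b` modulo `a` is trivial
  have hfix : ∀ s : C, s ∈ (S : Subgroup C) → ∀ i : ℕ,
      (s : G22) * b * (s : G22)⁻¹ = a ^ i * b → s = 1 := by
    intro s hs i e
    have hsa : Commute (s : G22) a := mem_centralizer_singleton_iff.1 s.2
    have hk : ∀ k : ℕ, (s : G22) ^ k * b * ((s : G22) ^ k)⁻¹ = a ^ (k * i) * b := by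
      intro k
      induction k with
      | zero => simp
      | succ k ih =>
        calc (s : G22) ^ (k + 1) * b * ((s : G22) ^ (k + 1))⁻¹
            = s * ((s : G22) ^ k * b * ((s : G22) ^ k)⁻¹) * (s : G22)⁻¹ := by
              rw [pow_succ']; group
          _ = (s * a ^ (k * i) * (s : G22)⁻¹) * (s * b * (s : G22)⁻¹) := by rw [ih]; group
          _ = a ^ ((k + 1) * i) * b := by
            rw [(hsa.pow_right _).eq, mul_inv_cancel_right, e, ← mul_assoc, ← pow_add]; ring_nf
    have h4 : (s : G22) ^ 4 = 1 := by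
      rw [← hS, ← orderOf_dvd_iff_pow_eq_one, Subgroup.orderOf_coe]
      exact (S : Subgroup C).orderOf_dvd_natCard hs
    have h4i := hk 4
    rw [h4, one_mul, inv_one, mul_one, right_eq_mul, ← orderOf_dvd_iff_pow_eq_one, ha3] at h4i
    have hi : a ^ i = 1 := by
      rw [← orderOf_dvd_iff_pow_eq_one, ha3]
      exact (Nat.Prime.dvd_mul Nat.prime_three).1 h4i |>.resolve_left (by norm_num)
    rw [hi, one_mul] at e
    have hsb : Commute (s : G22) b := by
      have := congrArg (· * (s : G22)) e
      show (s : G22) * b = b * s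
      simpa using this
    have hsP : (s : G22) ∈ (P : Subgroup G22) := by
      rw [← centralizer_sylow_three P, mem_centralizer_iff]
      intro v hv
      obtain ⟨i, j, -, rfl⟩ := hgen v hv
      exact ((hsa.pow_right i).mul_right (hsb.pow_right j)).eq.symm
    have hd : orderOf (s : G22) ∣ Nat.gcd 9 4 :=
      Nat.dvd_gcd (hP9 ▸ P.1.orderOf_dvd_natCard hsP) (orderOf_dvd_of_pow_eq_one h4)
    rw [show Nat.gcd 9 4 = 1 from rfl, Nat.dvd_one, orderOf_eq_one_iff] at hd
    exact Subtype.ext hd
  have hinv : ∀ s : C, s ∈ (S : Subgroup C) → s ≠ 1 →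
      ∃ i : ℕ, (s : G22) * b * (s : G22)⁻¹ = a ^ i * b ^ 2 := by
    intro s hs h1
    obtain ⟨i, j, hj, e⟩ := hgen _ ((mem_normalizer_iff.1 (hCN s.2) b).1 hbP)
    interval_cases j
    · exfalso
      apply hb
      have hsa : Commute (s : G22) a := mem_centralizer_singleton_iff.1 s.2
      have : b = a ^ i := by
        have := congrArg (fun x => (s : G22)⁻¹ * x * (s : G22)) e
        simpa [mul_assoc, (hsa.pow_right i).inv_left.eq] using this
      rw [this]; exact pow_mem (mem_zpowers a) _
    · exact absurd (hfix s hs i (by simpa using e)) h1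
    · exact ⟨i, e⟩
  have hprod : ∀ s t : C, s ∈ (S : Subgroup C) → t ∈ (S : Subgroup C) → s ≠ 1 → t ≠ 1 →
      s * t = 1 := by
    intro s t hs ht hs1 ht1
    obtain ⟨i, hi⟩ := hinv s hs hs1
    obtain ⟨j, hj⟩ := hinv t ht ht1
    have hsa : Commute (s : G22) a := mem_centralizer_singleton_iff.1 s.2
    refine hfix _ (mul_mem hs ht) (j + 2 * i) ?_
    calc ((s * t : C) : G22) * b * ((s * t : C) : G22)⁻¹
        = (s : G22) * ((t : G22) * b * (t : G22)⁻¹) * (s : G22)⁻¹ := by
          rw [Subgroup.coe_mul]; group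
      _ = ((s : G22) * a ^ j * (s : G22)⁻¹) * (((s : G22) * b * (s : G22)⁻¹) ^ 2) := by
          rw [hj, conj_pow]; group
      _ = a ^ j * (a ^ i * b ^ 2) ^ 2 := by
          rw [(hsa.pow_right _).eq, mul_inv_cancel_right, hi]
      _ = a ^ (j + 2 * i) * b := by
          rw [((hab.pow_pow i 2)).mul_pow, ← pow_mul, ← pow_mul, pow_succ b 3, hb3, one_mul,
            ← mul_assoc, ← pow_add, mul_comm i 2]
  obtain ⟨s, hs1⟩ : ∃ s : (S : Subgroup C), s ≠ 1 := by
    haveI : Nontrivial (S : Subgroup C) := by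
      rw [← Finite.one_lt_card_iff_nontrivial, hS]; norm_num
    exact exists_ne 1
  have hsub : ∀ x : (S : Subgroup C), x = 1 ∨ x = s⁻¹ := by
    intro x
    by_cases hx : x = 1
    · exact Or.inl hx
    · exact Or.inr (eq_inv_of_mul_eq_one_right (Subtype.ext (hprod s x s.2 x.2
        (fun e => hs1 (Subtype.ext e)) (fun e => hx (Subtype.ext e)))))
  have hle : Nat.card (S : Subgroup C) ≤ 2 := by
    have hsurj : Function.Surjective (fun c : Bool => if c then (s⁻¹ : (S : Subgroup C)) else 1) :=
      fun x => (hsub x).elim (fun e => ⟨false, by simp [e]⟩) (fun e => ⟨true, by simp [e]⟩)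
    simpa using Nat.card_le_card_of_surjective _ hsurj
  omega

/-- The normaliser of a Sylow 3-subgroup has order `72`. -/
theorem card_normalizer_sylow_three (P : Sylow 3 G22) :
    Nat.card ↥(normalizer ((P : Subgroup G22) : Set G22)) = 72 := by
  classical
  haveI : Fact (Nat.Prime 3) := ⟨Nat.prime_three⟩
  haveI : IsMulCommutative ↥(P : Subgroup G22) :=
    ⟨⟨fun a b => Subtype.ext (sylow_three_comm P _ a.2 _ b.2)⟩⟩
  set N : Subgroup G22 := normalizer ((P : Subgroup G22) : Set G22) with hN
  have hP9 := card_sylow_three P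
  haveI : Nontrivial (P : Subgroup G22) := by
    rw [← Finite.one_lt_card_iff_nontrivial, hP9]; norm_num
  obtain ⟨⟨a, haP⟩, ha1'⟩ := exists_ne (1 : (P : Subgroup G22))
  have ha1 : a ≠ 1 := fun e => ha1' (Subtype.ext e)
  letI : MulAction N (P : Subgroup G22) :=
    { smul := fun n x => ⟨(n : G22) * x * (n : G22)⁻¹, (mem_normalizer_iff.1 n.2 _).1 x.2⟩
      one_smul := fun x => Subtype.ext (show (1 : G22) * x * 1⁻¹ = x by group)
      mul_smul := fun m n x => Subtype.ext (show ((m : G22) * n) * x * ((m : G22) * n)⁻¹ =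
        m * (n * x * (n : G22)⁻¹) * (m : G22)⁻¹ by group) }
  have horb : MulAction.orbit N (⟨a, haP⟩ : (P : Subgroup G22)) = {x | x ≠ 1} := by
    ext ⟨x, hx⟩
    constructor
    · rintro ⟨n, hn⟩ e
      have : (n : G22) * a * (n : G22)⁻¹ = 1 := by
        have := congrArg Subtype.val (hn.trans e)
        exact this
      exact ha1 (conj_eq_one_iff.1 this)
    · intro hne
      have hx1 : x ≠ 1 := fun e => hne (Subtype.ext e)
      obtain ⟨c, hc⟩ := isConj_iff.1 (isConj_three (orderOf_of_mem_sylow_three P haP ha1)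
        (orderOf_of_mem_sylow_three P hx hx1))
      obtain ⟨n, hn, hn'⟩ := Sylow.conj_eq_normalizer_conj_of_mem P a c⁻¹ haP
        (by rw [inv_inv, hc]; exact hx)
      refine ⟨⟨n⁻¹, inv_mem hn⟩, Subtype.ext ?_⟩
      show n⁻¹ * a * n⁻¹⁻¹ = x
      rw [inv_inv, ← hn', inv_inv, hc]
  have hst : MulAction.stabilizer N (⟨a, haP⟩ : (P : Subgroup G22)) =
      (N ⊓ centralizer ({a} : Set G22)).subgroupOf N := by
    ext n
    rw [MulAction.mem_stabilizer_iff, mem_subgroupOf, mem_inf, mem_centralizer_singleton_iff]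
    constructor
    · intro h
      have h' : (n : G22) * a * (n : G22)⁻¹ = a := congrArg Subtype.val h
      exact ⟨n.2, by simpa using congrArg (· * (n : G22)) h'⟩
    · intro h
      exact Subtype.ext (show (n : G22) * a * (n : G22)⁻¹ = a by rw [h.2, mul_inv_cancel_right])
  have h8 : Nat.card (MulAction.orbit N (⟨a, haP⟩ : (P : Subgroup G22))) = 8 := by
    rw [horb, Nat.card_coe_set_eq, show {x : (P : Subgroup G22) | x ≠ 1} = {1}ᶜ by ext; simp,
      Set.ncard_compl, hP9, Set.ncard_singleton]
  rw [← card_mul_index (MulAction.stabilizer N (⟨a, haP⟩ : (P : Subgroup G22))),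
    MulAction.index_stabilizer, ← Nat.card_coe_set_eq, h8, hst,
    Nat.card_congr (subgroupOfEquivOfLe (inf_le_left : N ⊓ centralizer ({a} : Set G22) ≤ N)).toEquiv,
    card_normalizer_inf_cent haP ha1]

end H42.J4
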